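import Cfsg.Agent.Lib.Known.SympMult.Tools

/-!
# Complements over the radical: characteristic two, more than two scalars
-/

set_option autoImplicit false
set_option linter.unusedSectionVars false

namespace CfsgLib.Known.SympMult

open CfsgLib.Classical
open LinearMap (BilinForm)
open scoped commutatorElement

variable {F : Type*} [Field F] [Finite F] {V : Type*} [AddCommGroup V] [Module F V] {B : BilinForm F V} {a f : V}
  (P : Pair B a f) {Γ : Type*} [Group Γ] [Finite Γ] {σ : Γ →* Symp.Sp B} (C : CExt σ)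
  (h2 : (2 : F) = 0)

include P h2 in
theorem x_comm_two (v w : perp B a f) (t s : F) : Commute (P.x v t) (P.x w s) := by
  rw [commute_iff_eq, P.x_mul, P.x_mul, add_comm v w, P.sw (w : V) (v : V)]
  congr 1
  linear_combination -(B (w : V) v) * h2

include P C h2

theorem hasComplement_even {c : F} (hc : c ≠ 0) (hc1 : c ≠ 1) (hnd : ∃ e g : perp B a f, B (e : V) g = 1) :
    P.HasComplement σ := by
  classical
  obtain ⟨e, g, heg⟩ := hnd
  have hneg : ∀ r : F, -r = r := fun r => by linear_combination (-r) * h2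
  have hc2 : c ^ 2 - 1 ≠ 0 := by
    rw [show c ^ 2 - 1 = (c - 1) ^ 2 by linear_combination (c - 1) * h2]
    exact pow_ne_zero 2 (sub_ne_zero.2 hc1)
  have hsplit : ∀ v v' : perp B a f,
      P.x (v + v') 0 = P.x v 0 * P.x v' 0 * P.x 0 (B (v : V) v') := fun v v' => by
    rw [P.x_mul, P.x_mul]
    simp only [add_zero, zero_add, Submodule.coe_zero, map_zero, Submodule.coe_add]
    congr 1
    linear_combination -(B (v : V) v') * h2
  have hcomm := x_comm_two P h2
  have hadd : ∀ (y : Symp.Sp B) (v v' : perp B a f), (∀ v t, Commute y (P.x v t)) →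
      C.cm y (P.x (v + v') 0) = C.cm y (P.x v 0) * C.cm y (P.x v' 0) * C.cm y (P.x 0 (B (v : V) v')) := by
    intro y v v' hy
    rw [hsplit, C.cm_add_right (hy _ _), C.cm_add_right (hy _ _)]
  have hadd0 : ∀ (y : Symp.Sp B) (t t' : F), (∀ v t, Commute y (P.x v t)) →
      C.cm y (P.x 0 (t + t')) = C.cm y (P.x 0 t) * C.cm y (P.x 0 t') := by
    intro y t t' hy
    rw [← C.cm_add_right (hy _ _), P.x_mul]
    simp
  -- the long root commutes with the whole radical
  have hkey : ∀ (b : F) (u : perp B a f), u ≠ 0 → ∀ τ : F, τ ≠ 0 → ∀ r,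
      C.cm (P.x 0 b) (P.x (r • u) 0) * C.cm (P.x 0 b) (P.x 0 (τ * r)) = 1 := by
    intro b u hu τ hτ r
    obtain ⟨v0, hv0⟩ := P.exists_dual hu
    obtain ⟨γ, hγ⟩ : ∃ γ, σ γ = Symp.tr P.alt (u : V) (r / τ) := ⟨C.lf _, C.σ_lf _⟩
    have hL := P.tr_mem_LL u (r / τ)
    have h := C.cm_conj_eq (hcomm 0 (τ • v0) b 0) (Symp.tr P.alt (u : V) (r / τ))
    rw [P.conj_x hL, P.conj_x hL, show P.act _ hL 0 = 0 from Subtype.ext (map_zero _),
      show P.act _ hL (τ • v0) = τ • v0 + r • u by
        rw [P.act_tr]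
        refine congrArg _ (congrArg (· • u) ?_)
        simp [P.sw (u : V) (v0 : V), hv0, hneg]
        field_simp,
      hadd _ _ _ (fun v t => hcomm _ _ _ _)] at h
    rw [mul_assoc] at h
    have h' := mul_eq_left.1 h
    rwa [show B ((τ • v0 : perp B a f) : V) (r • u : perp B a f) = τ * r by
      simp [P.sw (u : V) (v0 : V), hv0, hneg]; ring] at h'
  have hxx : ∀ b r, C.cm (P.x 0 b) (P.x 0 r) = 1 := by
    intro b r
    have he : e ≠ 0 := fun h => by simp [h] at heg
    have h1 := hkey b e he 1 one_ne_zero (r / (c - 1))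
    have h3 := hkey b e he c hc (r / (c - 1))
    rw [show c * (r / (c - 1)) = 1 * (r / (c - 1)) + r by field_simp; ring, hadd0 _ _ _ (fun v t => hcomm _ _ _ _),
      ← mul_assoc, h1, one_mul] at h3
    exact h3
  have hxv : ∀ b v t, C.cm (P.x 0 b) (P.x v t) = 1 := by
    intro b v t
    rw [show P.x v t = P.x v 0 * P.x 0 t by rw [P.x_mul]; simp, C.cm_add_right (hcomm _ _ _ _), hxx, mul_one]
    rcases eq_or_ne v 0 with rfl | hv
    · exact hxx b 0
    have h := hkey b v hv 1 one_ne_zero 1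
    rwa [hxx, mul_one, one_smul] at h
  -- the pairing on the complement
  obtain ⟨k, hk⟩ : ∃ k : perp B a f → perp B a f → Γ, k = fun v w => C.cm (P.x v 0) (P.x w 0) := ⟨_, rfl⟩
  have hkr : ∀ v w w', k v (w + w') = k v w * k v w' := fun v w w' => by
    simp only [hk]
    rw [hadd _ _ _ (fun v t => hcomm _ _ _ _), ← C.cm_inv (P.x 0 _), hxv, inv_one, mul_one]
  have hkc : ∀ v w, σ (k v w) = 1 := fun v w => hk ▸ C.cm_central (hcomm _ _ _ _)
  have hswap : ∀ v w, k v w = (k w v)⁻¹ := fun v w => by rw [hk, C.cm_inv]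
  have hkl : ∀ v v' w, k (v + v') w = k v w * k v' w := fun v v' w => by
    rw [hswap, hkr, mul_inv_rev, ← hswap, ← hswap]
    exact (C.ker_comm (hkc v w) _).eq
  have horth : ∀ u w : perp B a f, B (u : V) w = 0 → k u w = 1 := by
    intro u w huw
    rcases eq_or_ne u 0 with rfl | hu
    · simp only [hk]; rw [P.x_zero, C.cm_one_left]
    obtain ⟨v0, hv0⟩ := P.exists_dual hu
    have hL := P.tr_mem_LL u 1
    have h := C.cm_conj_eq (hcomm v0 w 0 0) (Symp.tr P.alt (u : V) 1)
    rw [P.conj_x hL, P.conj_x hL,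
      show P.act _ hL v0 = v0 + u by rw [P.act_tr]; simp [P.sw (u : V) (v0 : V), hv0, hneg],
      show P.act _ hL w = w by rw [P.act_tr]; simp [P.sw (u : V) (w : V), huw]] at h
    have h' : k (v0 + u) w = k v0 w := by rw [hk]; exact h
    rw [hkl] at h'
    exact mul_eq_left.1 h'
  let : CommGroup σ.ker := { (inferInstance : Group σ.ker) with
    mul_comm := fun x y => Subtype.ext (C.ker_comm y.2 x).eq }
  have hfac : ∀ v w, k v w = k e (B (v : V) w • g) := fun v w => by
    have h := exists_factor P (A := Additive σ.ker) (fun v w => Additive.ofMul ⟨k v w, hkc v w⟩)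
      (fun u u' w => by rw [← ofMul_mul]; exact congrArg Additive.ofMul (Subtype.ext (hkl u u' w)))
      (fun u w w' => by rw [← ofMul_mul]; exact congrArg Additive.ofMul (Subtype.ext (hkr u w w')))
      (fun u w h => by rw [← ofMul_one]; exact congrArg Additive.ofMul (Subtype.ext (horth u w h))) heg v w
    exact congrArg Subtype.val (Additive.ofMul.injective h)
  have hk1 : ∀ v w, k v w = 1 := by
    intro v w
    rw [hfac]
    generalize B (v : V) w = r
    obtain ⟨r', hr'⟩ : ∃ r', r' = r / (c ^ 2 - 1) := ⟨_, rfl⟩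
    have h : k (c • e) (c • r' • g) = k e (r' • g) := by
      simp only [hk]
      conv_rhs => rw [← C.cm_conj_eq (hcomm e (r' • g) 0 0) (P.h c hc), P.h_conj_x, P.h_conj_x, mul_zero]
    rw [hfac (c • e)] at h
    rw [show B ((c • e : perp B a f) : V) (c • r' • g : perp B a f) = r' + r by
      simp [heg, hr']; field_simp; ring, add_smul, hkr] at h
    exact mul_eq_left.1 h
  have hQ : ∀ v w t s, C.cm (P.x v t) (P.x w s) = 1 := by
    intro v w t s
    rw [show P.x v t = P.x v 0 * P.x 0 t by rw [P.x_mul]; simp, C.cm_add_left (hcomm _ _ _ _), hxv, one_mul,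
      show P.x w s = P.x w 0 * P.x 0 s by rw [P.x_mul]; simp, C.cm_add_right (hcomm _ _ _ _),
      ← C.cm_inv (P.x 0 s), hxv, inv_one, mul_one]
    have := hk1 v w; rw [hk] at this; exact this
  have hbr : ∀ v t, ⁅P.h c hc, P.x v t⁆ = P.x ((c - 1) • v) ((c ^ 2 - 1) * t) := fun v t => by
    rw [commutatorElement_def, P.h_conj_x, P.x_inv, P.x_mul]
    simp only [sub_smul, one_smul, ← sub_eq_add_neg, Submodule.coe_neg, Submodule.coe_smul, map_neg,
      LinearMap.map_smul, LinearMap.smul_apply, P.alt (v : V), smul_zero, neg_zero, add_zero]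
    congr 1
    ring
  refine P.hasComplement_of_section σ (fun v t => C.cm (P.h c hc) (P.x ((c - 1)⁻¹ • v) (t / (c ^ 2 - 1))))
    (fun v t => ?_) (fun v w t s => ?_) (fun γ hγ v t => ?_)
  · rw [C.σ_cm, hbr, smul_smul, mul_inv_cancel₀ (sub_ne_zero.2 hc1), one_smul,
      mul_div_cancel₀ _ hc2]
  · rw [← C.cm_mul_right (fun x y hx hy => by rw [hbr] at hy; exact C.commute_of_cm hx hy (hQ _ _ _ _)),
      P.x_mul, smul_add]
    congr 2
    simp only [Submodule.coe_smul, LinearMap.map_smul, LinearMap.smul_apply, smul_eq_mul]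
    rw [show c ^ 2 - 1 = (c - 1) ^ 2 by linear_combination (c - 1) * h2]
    have h0 : c - 1 ≠ 0 := sub_ne_zero.2 hc1
    field_simp
  · rw [C.conj_cm rfl, P.conj_x hγ]
    congr 1
    · rw [← P.h_conj_LL c hc hγ, mul_inv_cancel_right]
    · congr 1
      exact Subtype.ext (LinearEquiv.map_smul _ _ _)

end CfsgLib.Known.SympMult
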