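import Cfsg.Agent.Lib.Known.SympMult.Tools

/-!
# Complements over the radical: odd characteristic
-/

set_option autoImplicit false
set_option linter.unusedSectionVars false

namespace CfsgLib.Known.SympMult

open CfsgLib.Classical
open LinearMap (BilinForm)
open scoped commutatorElement

variable {F : Type*} [Field F] [Finite F] {V : Type*} [AddCommGroup V] [Module F V] {B : BilinForm F V} {a f : V}
  (P : Pair B a f) {Γ : Type*} [Group Γ] [Finite Γ] {σ : Γ →* Symp.Sp B} (C : CExt σ)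
  (h2 : (2 : F) ≠ 0) (hsq : Function.Bijective fun z : σ.ker => z ^ 2)

include hsq in
theorem eq_one_of_sq {z : Γ} (hz : σ z = 1) (h : z * z = 1) : z = 1 := by
  have : (⟨z, hz⟩ : σ.ker) = 1 := hsq.1 (Subtype.ext (by simp [pow_two, h]))
  exact congrArg Subtype.val this

include C hsq in
theorem cm_self_inv {g k : Symp.Sp B} (hgk : Commute g k) (h : C.cm g k = C.cm g k⁻¹) : C.cm g k = 1 := by
  refine eq_one_of_sq hsq (C.cm_central hgk) ?_
  have h1 := C.cm_add_right (g := g) (h := k) (h' := k⁻¹) hgk.inv_right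
  rwa [mul_inv_cancel, C.cm_one_right, ← h, eq_comm] at h1

include P C h2 hsq

theorem odd_x0_x (u : perp B a f) (t : F) : C.cm (P.x 0 t) (P.x u 0) = 1 := by
  have hc : Commute (P.x 0 t) (P.x u 0) := (P.commute_x0 u 0 t).symm
  refine cm_self_inv C hsq hc ?_
  conv_lhs => rw [← C.cm_conj_eq hc (P.h (-1) (by norm_num)), P.h_conj_x, P.h_conj_x]
  rw [P.x_inv]
  simp

theorem odd_x0_x0 (hnd : ∃ e g : perp B a f, B (e : V) g = 1) (s t : F) :
    C.cm (P.x 0 s) (P.x 0 t) = 1 := by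
  obtain ⟨e, g, heg⟩ := hnd
  have he : P.x 0 s = ⁅P.x e 0, P.x ((s / 2) • g) 0⁆ := by
    rw [P.comm_x]; congr 1; simp [heg]; field_simp
  obtain ⟨A, hA⟩ : ∃ A, A = C.cm (P.x e 0) (P.x ((s / 2) • g) 0) := ⟨_, rfl⟩
  obtain ⟨y, hy⟩ : ∃ y, σ y = P.x 0 t := ⟨C.lf _, C.σ_lf _⟩
  have hA' : σ A = P.x 0 s := by rw [hA, C.σ_cm, he]
  rw [← C.comm_eq hA' hy, commutatorElement_eq_one_iff_commute, hA,
    ← C.comm_eq (C.σ_lf (P.x e 0)) (C.σ_lf (P.x ((s / 2) • g) 0))]
  have h1 : ∀ w : perp B a f, Commute (C.lf (P.x w 0)) y := fun w =>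
    (C.commute_of_cm hy (C.σ_lf _) (odd_x0_x P C h2 hsq w t)).symm
  rw [commutatorElement_def]
  exact (((h1 _).mul_left (h1 _)).mul_left (h1 _).inv_left).mul_left (h1 _).inv_left

theorem odd_x0_tr (u : perp B a f) (s t : F) : C.cm (Symp.tr P.alt (u : V) s) (P.x 0 t) = 1 := by
  classical
  obtain ⟨K, hK⟩ : ∃ K : F → F → Γ, K = fun s t => C.cm (Symp.tr P.alt (u : V) s) (P.x 0 t) := ⟨_, rfl⟩
  have hcm : ∀ s t, Commute (Symp.tr P.alt (u : V) s) (P.x 0 t) := fun s t =>
    P.commute_x0_LL (P.tr_mem_LL u s) t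
  have hz : ∀ s t, σ (K s t) = 1 := fun s t => hK ▸ C.cm_central (hcm s t)
  have hr : ∀ s t t', K s (t + t') = K s t * K s t' := fun s t t' => by
    simp only [hK]
    rw [← C.cm_add_right (hcm s t'), P.x_mul]
    simp
  have hl : ∀ s s' t, K (s + s') t = K s' t * K s t := fun s s' t => by
    simp only [hK]
    rw [← C.cm_add_left (hcm s' t), Symp.tr_mul]
  show _ = _
  suffices h : K s t = 1 by rwa [hK] at h
  by_cases hlam : ∃ c : F, c ≠ 0 ∧ c ^ 2 ≠ 1
  · obtain ⟨c, hc, hc2⟩ := hlam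
    have h0 : c ^ 2 - 1 ≠ 0 := sub_ne_zero.2 hc2
    have hinv : ∀ t, K s (c ^ 2 * t) = K s t := fun t => by
      simp only [hK]
      conv_rhs => rw [← C.cm_conj_eq (hcm s t) (P.h c hc), Symp.conj_tr, P.h_perp c hc u, P.h_conj_x, smul_zero]
    have := hinv (t / (c ^ 2 - 1))
    rw [show c ^ 2 * (t / (c ^ 2 - 1)) = t + t / (c ^ 2 - 1) by field_simp; ring, hr] at this
    exact mul_eq_right.1 this
  · push Not at hlam
    have hK0 : ∀ s, K s 0 = 1 := fun s => by
      have := hr s 0 0; rw [add_zero] at this; exact mul_eq_left.1 this.symm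
    have hK0' : ∀ t, K 0 t = 1 := fun t => by
      have := hl 0 0 t; rw [add_zero] at this; exact mul_eq_left.1 this.symm
    rcases eq_or_ne u 0 with rfl | hu
    · rw [hK]
      simp only [Submodule.coe_zero]
      rw [show Symp.tr P.alt (0 : V) s = 1 from Subtype.ext (LinearEquiv.ext fun y => by simp [Symp.tr_apply]),
        C.cm_one_left]
    obtain ⟨u', hu'⟩ := P.exists_dual hu
    let wm : V →ₗ[F] V := LinearMap.id + (B.flip f - B.flip (u' : V)).smulRight ((u : V) - a)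
      + (B a - B (u : V)).smulRight ((u' : V) - f)
    have hwm : ∀ y, wm y = y + (B y f - B y u') • ((u : V) - a) + (B a y - B (u : V) y) • ((u' : V) - f) :=
      fun y => by simp [wm]
    have hinvol : ∀ y, wm (wm y) = y := fun y => by
      simp only [hwm, map_add, map_sub, LinearMap.map_smul, LinearMap.add_apply, LinearMap.sub_apply,
        LinearMap.smul_apply, smul_eq_mul, P.alt a, P.alt f, P.af, P.av, P.va, P.fv, P.vf, P.alt (u : V),
        P.alt (u' : V), hu', P.fa, P.sw (u : V) (u' : V)]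
      match_scalars <;> ring
    let W : Symp.Sp B := ⟨{ toLinearMap := wm, invFun := wm, left_inv := hinvol, right_inv := hinvol },
      fun y z => by
        show B (wm y) (wm z) = B y z
        simp only [hwm, map_add, map_sub, LinearMap.map_smul, LinearMap.add_apply, LinearMap.sub_apply,
          LinearMap.smul_apply, smul_eq_mul, P.alt a, P.alt f, P.af, P.av, P.va, P.fv, P.vf, P.alt (u : V),
          P.alt (u' : V), hu', P.fa, P.sw (u : V) (u' : V)]
        rw [P.sw z f, P.sw z (u' : V), P.sw a y, P.sw (u : V) y]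
        ring⟩
    have hWu : (W : V ≃ₗ[F] V) (u : V) = a := by
      show wm (u : V) = a
      simp [hwm, P.vf, P.av, P.alt (u : V), hu']
    have hWa : (W : V ≃ₗ[F] V) a = (u : V) := by
      show wm a = (u : V)
      simp [hwm, P.af, P.alt a, P.av, P.va]
    have hswap : ∀ s t, K s t = (K (-t) (-s))⁻¹ := fun s t => by
      simp only [hK]
      conv_lhs => rw [← C.cm_conj_eq (hcm s t) W, Symp.conj_tr, hWu, P.x_zero_eq_tr, Symp.conj_tr, hWa,
        ← neg_neg s, ← P.x_zero_eq_tr]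
      rw [C.cm_inv]
    have hneg : ∀ s t, K (-s) (-t) = K s t := fun s t => by
      have e1 := hl s (-s) (-t)
      rw [add_neg_cancel, hK0'] at e1
      have e2 := hr s t (-t)
      rw [add_neg_cancel, hK0] at e2
      rw [eq_inv_of_mul_eq_one_left e1.symm, eq_inv_of_mul_eq_one_left e2.symm]
    have h11 : K 1 1 = 1 := eq_one_of_sq hsq (hz 1 1) (by
      have := hswap 1 1
      rw [hneg] at this
      exact eq_inv_iff_mul_eq_one.1 this)
    have h3 : ∀ r : F, r = 0 ∨ r = 1 ∨ r = -1 := fun r => by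
      by_cases hr0 : r = 0
      · exact Or.inl hr0
      · exact Or.inr (sq_eq_one_iff.1 (hlam r hr0))
    have e2 : ∀ t, K 1 t = 1 := fun t => by
      rcases h3 t with rfl | rfl | rfl
      · exact hK0 1
      · exact h11
      · have := hr 1 (-1) 1; rw [neg_add_cancel, hK0, h11, mul_one] at this; exact this.symm
    rcases h3 s with rfl | rfl | rfl
    · exact hK0' t
    · exact e2 t
    · have := hl (-1) 1 t; rw [neg_add_cancel, hK0', e2, one_mul] at this; exact this.symm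

theorem hasComplement_odd (hnd : ∃ e g : perp B a f, B (e : V) g = 1) : P.HasComplement σ := by
  classical
  obtain ⟨e, g, heg⟩ := hnd
  obtain ⟨hl, hhl⟩ : ∃ hl, σ hl = P.h (-1) (by norm_num) := ⟨C.lf _, C.σ_lf _⟩
  have hι : ∀ v : perp B a f, ∃ y, σ y = P.x v 0 ∧ hl * y * hl⁻¹ = y⁻¹ := by
    intro v
    obtain ⟨y, hy⟩ : ∃ y, σ y = P.x v 0 := ⟨C.lf _, C.σ_lf _⟩
    have hz : σ (hl * y * hl⁻¹ * y) = 1 := by
      rw [map_mul, map_mul, map_mul, map_inv, hhl, hy, P.h_conj_x, P.x_mul, ← P.x_zero]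
      congr 1
      · simp
      · simp [P.alt (v : V)]
    obtain ⟨r, hr⟩ := hsq.2 ⟨_, inv_mem (show hl * y * hl⁻¹ * y ∈ σ.ker from hz)⟩
    have hr' : (r : Γ) * r = (hl * y * hl⁻¹ * y)⁻¹ := by rw [← pow_two]; exact congrArg Subtype.val hr
    have hcr : ∀ g, Commute g (r : Γ) := C.ker_comm r.2
    refine ⟨y * r, by rw [map_mul, hy, MonoidHom.mem_ker.1 r.2, mul_one], ?_⟩
    rw [← mul_eq_one_iff_eq_inv]
    calc hl * (y * r) * hl⁻¹ * (y * r) = hl * y * ((r : Γ) * hl⁻¹) * y * r := by group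
      _ = hl * y * hl⁻¹ * (r * y) * r := by rw [← (hcr hl⁻¹).eq]; group
      _ = hl * y * hl⁻¹ * y * ((r : Γ) * r) := by rw [← (hcr y).eq]; group
      _ = 1 := by rw [hr', mul_inv_cancel]
  choose ι hι1 hι2 using hι
  have huniq : ∀ v y, σ y = P.x v 0 → hl * y * hl⁻¹ = y⁻¹ → y = ι v := by
    intro v y hy hy'
    obtain ⟨z, hz, rfl⟩ := C.diff (hy.trans (hι1 v).symm)
    have hcz : ∀ g, Commute g z := C.ker_comm hz
    have hzz : z * z = 1 := by
      rw [show hl * (ι v * z) * hl⁻¹ = hl * ι v * hl⁻¹ * z by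
        rw [mul_assoc, mul_assoc (ι v), ← (hcz hl⁻¹).eq]; group, hι2, mul_inv_rev, ← (hcz (ι v)⁻¹).inv_right.eq]
        at hy'
      rw [← eq_inv_iff_mul_eq_one]
      exact mul_left_cancel hy'
    rw [eq_one_of_sq hsq hz hzz, mul_one]
  have hx0 : ∀ (u : perp B a f) (t : F) (x y : Γ), σ x = P.x u 0 → σ y = P.x 0 t → Commute x y :=
    fun u t x y hx hy => (C.commute_of_cm hy hx (odd_x0_x P C h2 hsq u t)).symm
  obtain ⟨c, hc⟩ : ∃ c : perp B a f → perp B a f → Γ, c = fun v w => C.cm (P.x v 0) (P.x w 0) := ⟨_, rfl⟩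
  have hσc : ∀ v w, σ (c v w) = P.x 0 (2 * B (v : V) w) := fun v w => by rw [hc, C.σ_cm, P.comm_x]
  have hcc : ∀ v w v' w', Commute (c v w) (c v' w') := fun v w v' w' =>
    C.commute_of_cm (hσc v w) (hσc v' w') (odd_x0_x0 P C h2 hsq ⟨e, g, heg⟩ _ _)
  have hsplit : ∀ v v' : perp B a f, P.x v 0 * P.x v' 0 = P.x (v + v') 0 * P.x 0 (B (v : V) v') := fun v v' => by
    rw [P.x_mul, P.x_mul]; simp
  have hcl : ∀ v v' w, c (v + v') w = c v w * c v' w := fun v v' w => by
    simp only [hc]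
    have h1 := C.cm_mul_left (g := P.x v 0) (g' := P.x v' 0) (h := P.x w 0) fun x y hx hy => by
      rw [P.comm_x] at hy; exact hx0 _ _ x y hx hy
    rw [hsplit, C.cm_mul_left (g := P.x (v + v') 0) (g' := P.x 0 (B (v : V) v')) (h := P.x w 0)
      (fun x y hx hy => by
        rw [commutatorElement_eq_one_iff_commute.2 (P.commute_x0 w 0 _).symm] at hy
        exact C.ker_comm hy x), odd_x0_x P C h2 hsq, one_mul] at h1
    rw [h1]
    have := hcc v' w v w
    simp only [hc] at this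
    exact this.eq
  have hcr : ∀ v w w', c v (w + w') = c v w * c v w' := fun v w w' => by
    have hswap : ∀ v w, c v w = (c w v)⁻¹ := fun v w => by rw [hc, C.cm_inv]
    rw [hswap v, hcl, mul_inv_rev, ← hswap, ← hswap]
    exact (hcc _ _ _ _).eq
  have hconj : ∀ γ, ∀ hγ : σ γ ∈ P.LL, ∀ v w, γ * c v w * γ⁻¹ = c (P.act _ hγ v) (P.act _ hγ w) :=
    fun γ hγ v w => by simp only [hc]; rw [C.conj_cm rfl, P.conj_x hγ, P.conj_x hγ]
  have hc0 : ∀ w, c 0 w = 1 := fun w => by simp only [hc]; rw [P.x_zero, C.cm_one_left]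
  have horth : ∀ u w : perp B a f, B (u : V) w = 0 → c u w = 1 := fun u w huw => by
    rcases eq_or_ne u 0 with rfl | hu
    · exact hc0 w
    obtain ⟨v', hv'⟩ := P.exists_dual hu
    obtain ⟨γ, hγ⟩ : ∃ γ, σ γ = Symp.tr P.alt (u : V) 1 := ⟨C.lf _, C.σ_lf _⟩
    have hγL : σ γ ∈ P.LL := hγ ▸ P.tr_mem_LL u 1
    have h1 := hconj γ hγL (-v') w
    rw [(C.commute_of_cm hγ (hσc (-v') w) (odd_x0_tr P C h2 hsq u 1 _)).eq, mul_inv_cancel_right] at h1
    have e1 : P.act _ hγL (-v') = -v' + u := by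
      refine Subtype.ext ?_
      simp [Pair.act, hγ, Symp.tr_apply, P.sw (u : V) (v' : V), hv']
    have e2 : P.act _ hγL w = w := by
      refine Subtype.ext ?_
      simp [Pair.act, hγ, Symp.tr_apply, P.sw (u : V) (w : V), huw]
    rw [e1, e2, hcl] at h1
    exact mul_eq_left.1 h1.symm
  obtain ⟨φ, hφ⟩ : ∃ φ : F → Γ, φ = fun r => c e (r • g) := ⟨_, rfl⟩
  let A : Subgroup Γ := Subgroup.closure {x | ∃ v w, x = c v w}
  have hA : ∀ x ∈ A, ∀ y ∈ A, Commute x y := by
    intro x hx y hy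
    induction hx using Subgroup.closure_induction with
    | mem x hx =>
      obtain ⟨v, w, rfl⟩ := hx
      induction hy using Subgroup.closure_induction with
      | mem y hy => obtain ⟨v', w', rfl⟩ := hy; exact hcc _ _ _ _
      | one => exact Commute.one_right _
      | mul _ _ _ _ h h' => exact h.mul_right h'
      | inv _ _ h => exact h.inv_right
    | one => exact Commute.one_left _
    | mul _ _ _ _ h h' => exact h.mul_left h'
    | inv _ _ h => exact h.inv_left
  let : CommGroup A := { (inferInstance : Group A) with mul_comm := fun x y => Subtype.ext (hA x x.2 y y.2).eq }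
  have hfac : ∀ v w, c v w = φ (B (v : V) w) := fun v w => by
    have h := exists_factor P (A := Additive A)
      (fun v w => Additive.ofMul ⟨c v w, Subgroup.subset_closure ⟨v, w, rfl⟩⟩)
      (fun u u' w => by rw [← ofMul_mul]; exact congrArg Additive.ofMul (Subtype.ext (hcl u u' w)))
      (fun u w w' => by rw [← ofMul_mul]; exact congrArg Additive.ofMul (Subtype.ext (hcr u w w')))
      (fun u w h => by rw [← ofMul_one]; exact congrArg Additive.ofMul (Subtype.ext (horth u w h))) heg v w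
    rw [hφ]
    exact congrArg Subtype.val (Additive.ofMul.injective h)
  have hφadd : ∀ r r', φ (r + r') = φ r * φ r' := fun r r' => by simp only [hφ, add_smul, hcr]
  have hφ0 : φ 0 = 1 := by have := hφadd 0 0; rw [add_zero] at this; exact mul_eq_left.1 this.symm
  have hφneg : ∀ r, φ (-r) = (φ r)⁻¹ := fun r => by
    rw [eq_inv_iff_mul_eq_one, ← hφadd, neg_add_cancel, hφ0]
  have hφσ : ∀ r, σ (φ r) = P.x 0 (2 * r) := fun r => by simp [hφ, hσc, heg]
  have hφL : ∀ γ, σ γ ∈ P.LL → ∀ r, γ * φ r * γ⁻¹ = φ r := fun γ hγ r => by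
    conv_lhs => rw [hφ]; simp only
    rw [hconj γ hγ, hfac, P.B_act]
    simp [heg]
  have hφh : ∀ r, hl * φ r * hl⁻¹ = φ r := fun r => by
    conv_lhs => rw [hφ]; simp only [hc]
    rw [C.conj_cm hhl, P.h_conj_x, P.h_conj_x, mul_zero,
      show C.cm (P.x ((-1 : F) • e) 0) (P.x ((-1 : F) • r • g) 0) = c ((-1 : F) • e) ((-1 : F) • r • g) by rw [hc],
      hfac]
    simp [heg]
  have hφι : ∀ r v, Commute (φ r) (ι v) := fun r v => (hx0 v _ _ _ (hι1 v) (hφσ r)).symm
  have hιmul : ∀ v w, ι v * ι w = ι (v + w) * φ (B (v : V) w / 2) := by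
    intro v w
    obtain ⟨b, hb⟩ : ∃ b, b = B (v : V) w / 2 := ⟨_, rfl⟩
    have hb2 : 2 * b = B (v : V) w := by rw [hb]; field_simp
    rw [← hb]
    obtain ⟨z, hz, hz'⟩ := C.diff (x := ι v * ι w) (y := ι (v + w) * φ b) (by
      rw [map_mul, map_mul, hι1, hι1, hι1, hφσ, hb2, hsplit])
    have hcz : ∀ g, Commute g z := C.ker_comm hz
    suffices z = 1 by rw [hz', this, mul_one]
    have hswp : ι w * ι v = φ (B (w : V) v) * (ι v * ι w) := by
      rw [← hfac, ← show ⁅ι w, ι v⁆ = c w v by rw [hc, C.comm_eq (hι1 w) (hι1 v)], commutatorElement_def]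
      group
    have h1 : (ι v)⁻¹ * (ι w)⁻¹ = (ι (v + w))⁻¹ * φ b * z := by
      rw [← hι2, ← hι2, ← hι2]
      have := congrArg (fun y => hl * y * hl⁻¹) hz'
      rw [show hl * (ι (v + w) * φ b * z) * hl⁻¹ = hl * ι (v + w) * hl⁻¹ * (hl * φ b * hl⁻¹) * z by
        rw [show hl * (ι (v + w) * φ b * z) * hl⁻¹ = hl * ι (v + w) * φ b * (z * hl⁻¹) by group,
          ← (hcz hl⁻¹).eq]
        group, hφh] at this
      rw [← this]; group
    have h3 : ι w * ι v = z⁻¹ * φ (-b) * ι (v + w) := by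
      rw [hφneg, ← inv_inj]
      simp only [mul_inv_rev, inv_inv]
      rw [h1]; group
    rw [hswp, hz', show B (w : V) v = -(2 * b) by rw [hb2, P.sw], hφneg] at h3
    have h4 : φ (-(2 * b)) * (ι (v + w) * φ b * z) = φ (-b) * z * ι (v + w) := by
      rw [(hφι b (v + w)).symm.eq, ← mul_assoc, ← mul_assoc, ← hφadd, mul_assoc, (hcz (ι (v + w))).eq,
        ← mul_assoc]
      congr 3; ring
    rw [hφneg (2 * b)] at h4
    refine eq_one_of_sq hsq hz ?_
    have h5 := mul_right_cancel (h3.symm.trans h4)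
    rw [← ((hcz (φ (-b))).inv_right).eq] at h5
    have h6 : z⁻¹ = z := mul_left_cancel h5
    calc z * z = z⁻¹ * z := by rw [h6]
      _ = 1 := inv_mul_cancel z
  refine P.hasComplement_of_section σ (fun v t => ι v * φ (t / 2)) (fun v t => ?_) (fun v w t s => ?_)
    (fun γ hγ v t => ?_)
  · rw [map_mul, hι1, hφσ, P.x_mul, show 2 * (t / 2) = t by field_simp]; simp
  · rw [show ι v * φ (t / 2) * (ι w * φ (s / 2)) = ι v * (φ (t / 2) * ι w) * φ (s / 2) by group,
      (hφι _ w).eq, ← mul_assoc (ι v), hιmul, mul_assoc, mul_assoc, ← hφadd, ← hφadd]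
    congr 2; ring
  · have hγι : γ * ι v * γ⁻¹ = ι (P.act _ hγ v) := by
      refine huniq _ _ (by rw [map_mul, map_mul, map_inv, hι1, P.conj_x hγ]) ?_
      obtain ⟨z, hz, e'⟩ := C.diff (x := hl * γ) (y := γ * hl) (by
        rw [map_mul, map_mul, hhl, P.h_conj_LL _ _ hγ])
      have hcz := C.ker_comm hz
      calc hl * (γ * ι v * γ⁻¹) * hl⁻¹ = hl * γ * ι v * (hl * γ)⁻¹ := by group
        _ = γ * (hl * (z * ι v) * z⁻¹ * hl⁻¹) * γ⁻¹ := by rw [e']; group
        _ = γ * (hl * ι v * hl⁻¹) * γ⁻¹ := by rw [← (hcz (ι v)).eq]; group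
        _ = _ := by rw [hι2]; group
    rw [← hγι]
    conv_rhs => rw [← hφL γ hγ (t / 2)]
    group

end CfsgLib.Known.SympMult
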