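import Cfsg.Agent.Lib.Known.SympMult.Tools

/-!
# Complements over the radical: two scalars
-/

set_option autoImplicit false
set_option linter.unusedSectionVars false

namespace CfsgLib.Known.SympMult

open CfsgLib.Classical
open LinearMap (BilinForm)
open scoped commutatorElement

variable {F : Type*} [Field F] [Finite F] {V : Type*} [AddCommGroup V] [Module F V] [FiniteDimensional F V]
  {B : BilinForm F V} {a f : V}
  (P : Pair B a f) {Γ : Type*} [Group Γ] [Finite Γ] {σ : Γ →* Symp.Sp B} (C : CExt σ)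
  (hF : ∀ r : F, r = 0 ∨ r = 1) (hdim : 8 ≤ Module.finrank F V)

include hdim in
theorem exists_orth {k l : ℕ} (hkl : k + l < 8) (v : Fin k → V) (w : Fin l → V) :
    ∃ r, r ∉ Submodule.span F (Set.range w) ∧ ∀ i, B (v i) r = 0 := by
  obtain ⟨Φ, hΦ⟩ : ∃ Φ : V →ₗ[F] (Fin k → F), Φ = LinearMap.pi fun i => B (v i) := ⟨_, rfl⟩
  by_contra hne
  push Not at hne
  have hle : LinearMap.ker Φ ≤ Submodule.span F (Set.range w) := by
    intro r hr
    by_contra hr'
    obtain ⟨i, hi⟩ := hne r hr'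
    apply hi
    have := congrFun (LinearMap.mem_ker.1 hr) i
    rwa [hΦ] at this
  have h1 := Submodule.finrank_mono hle
  have h2 : Module.finrank F (Submodule.span F (Set.range w)) ≤ l := by
    have := finrank_range_le_card (R := F) w
    simpa [Set.finrank] using this
  have h3 := LinearMap.finrank_range_add_finrank_ker Φ
  have h4 : Module.finrank F (LinearMap.range Φ) ≤ k := (Submodule.finrank_le _).trans (by simp)
  omega

include P in
theorem LL_gen {g : Symp.Sp B} (hg : g ∈ P.LL) : g ∈ Symp.trGroup P.alt (perp B a f) := by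
  have hbot : ∀ x ∈ (⊥ : Submodule F V), (∀ y ∈ (⊥ : Submodule F V), B x y = 0) → x = 0 := fun x hx _ => by
    simpa using hx
  have hW0 := Symp.nondeg_sup_pair P.alt hbot (u := a) (v := f)
    (Symp.mem_orthogonal.2 fun w hw => by simp [(Submodule.mem_bot F).1 hw])
    (Symp.mem_orthogonal.2 fun w hw => by simp [(Submodule.mem_bot F).1 hw]) P.af
  suffices ∀ (k : ℕ) (W : Submodule F V), Module.finrank F V ≤ Module.finrank F W + k → a ∈ W → f ∈ W →
      (∀ x ∈ W, (∀ y ∈ W, B x y = 0) → x = 0) →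
      ∀ g : Symp.Sp B, (∀ x ∈ W, (g : V ≃ₗ[F] V) x = x) → g ∈ Symp.trGroup P.alt (perp B a f) by
    refine this (Module.finrank F V) (⊥ ⊔ Submodule.span F {a, f}) (by omega)
      (Submodule.mem_sup_right (Submodule.subset_span (by simp)))
      (Submodule.mem_sup_right (Submodule.subset_span (by simp))) hW0 g fun x hx => ?_
    rw [bot_sup_eq] at hx
    obtain ⟨α, β, rfl⟩ := Submodule.mem_span_pair.1 hx
    simp [hg.1, hg.2]
  intro k
  induction k with
  | zero =>
    intro W hW _ _ _ g hg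
    have hWt : W = ⊤ :=
      Submodule.eq_top_of_finrank_eq (le_antisymm (Submodule.finrank_le W) (by simpa using hW))
    have : g = 1 := by ext x; simpa using hg x (hWt ▸ Submodule.mem_top)
    rw [this]; exact one_mem _
  | succ k ih =>
    intro W hW haW hfW hWn g hg
    by_cases hWt : W = ⊤
    · have : g = 1 := by ext x; simpa using hg x (hWt ▸ Submodule.mem_top)
      rw [this]; exact one_mem _
    obtain ⟨hc, hUn⟩ := Symp.nondeg_orthogonal P.alt P.nondeg hWn
    have hUne : B.orthogonal W ≠ ⊥ := fun h => hWt (by simpa [h] using hc.sup_eq_top)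
    obtain ⟨u, hu, hu0⟩ := Submodule.exists_mem_ne_zero_of_ne_bot hUne
    obtain ⟨v, hv, huv⟩ := Symp.exists_partner hUn hu hu0
    have hgU : ∀ x ∈ B.orthogonal W, (g : V ≃ₗ[F] V) x ∈ B.orthogonal W := fun x hx => by
      rw [Symp.mem_orthogonal] at hx ⊢
      intro w hw
      rw [← hg w hw]
      exact (g.2 w x).trans (hx w hw)
    obtain ⟨t, ht, htu, htv⟩ := Symp.transitive_hyperbolic P.alt hUn (hgU u hu) (hgU v hv) hu hv
      ((g.2 u v).trans huv) huv
    have hle : B.orthogonal W ≤ perp B a f := fun x hx =>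
      ⟨Symp.mem_orthogonal.1 hx a haW, Symp.mem_orthogonal.1 hx f hfW⟩
    have htT : t ∈ Symp.trGroup P.alt (perp B a f) :=
      Subgroup.closure_mono (by rintro y ⟨w, hw, c, hy⟩; exact ⟨w, hle hw, c, hy⟩) ht
    have hlt : Module.finrank F W < Module.finrank F ↥(W ⊔ Submodule.span F {u, v}) := by
      refine Submodule.finrank_lt_finrank_of_lt (lt_of_le_of_ne le_sup_left fun h => ?_)
      have huW : u ∈ W :=
        h ▸ Submodule.mem_sup_right (Submodule.subset_span (Set.mem_insert _ _))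
      exact hu0 (Submodule.disjoint_def.1 hc.disjoint u huW hu)
    have hmem := ih (W ⊔ Submodule.span F {u, v}) (by omega) (Submodule.mem_sup_left haW)
      (Submodule.mem_sup_left hfW) (Symp.nondeg_sup_pair P.alt hWn hu hv huv) (t * g) (by
        intro x hx
        obtain ⟨w, hw, p, hp, rfl⟩ := Submodule.mem_sup.1 hx
        obtain ⟨α, β, rfl⟩ := Submodule.mem_span_pair.1 hp
        have htw : (t : V ≃ₗ[F] V) w = w :=
          Symp.trGroup_fix P.alt ht fun z hz => Symp.mem_orthogonal.1 hz w hw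
        simp [hg w hw, htw, htu, htv])
    exact (Subgroup.mul_mem_cancel_left _ htT).1 hmem

include P in
theorem trGroup_le_LL : Symp.trGroup P.alt (perp B a f) ≤ P.LL :=
  (Subgroup.closure_le _).2 (by rintro _ ⟨u, hu, c, rfl⟩; exact P.tr_mem_LL ⟨u, hu⟩ c)

include P in
theorem nondeg_perp : ∀ x ∈ perp B a f, (∀ y ∈ perp B a f, B x y = 0) → x = 0 := by
  intro x hx h
  by_contra hne
  obtain ⟨w, hw⟩ := P.exists_dual (v := ⟨x, hx⟩) (fun e => hne (congrArg Subtype.val e))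
  exact one_ne_zero (hw.symm.trans (h w w.2))

include P hF in
theorem x_eq_tr (v : perp B a f) :
    P.x v 0 = Symp.tr P.alt a 1 * Symp.tr P.alt (a + (v : V)) 1 * Symp.tr P.alt (v : V) 1 := by
  have hneg : ∀ r : F, -r = r := fun r => by
    have h2 : (2 : F) = 0 := (hF 2).resolve_right fun h => one_ne_zero (α := F) (by linear_combination h)
    linear_combination (-r) * h2
  refine Subtype.ext (LinearEquiv.ext fun y => ?_)
  simp only [Subgroup.coe_mul, LinearEquiv.mul_apply, P.x_apply, Symp.tr_apply, map_add, LinearMap.add_apply,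
    LinearMap.map_smul, LinearMap.smul_apply, smul_eq_mul, P.alt a, P.alt (v : V), P.av, P.va, one_mul, zero_mul,
    zero_smul, add_zero, mul_zero, zero_add]
  rw [P.sw (v : V) y, P.sw a y]
  simp only [hneg]
  have h2 : (2 : F) = 0 := (hF 2).resolve_right fun h => one_ne_zero (α := F) (by linear_combination h)
  match_scalars <;> first | ring1 | linear_combination (B a y) * h2 | linear_combination -(B a y) * h2 |
    linear_combination (B (v : V) y) * h2 | linear_combination -(B (v : V) y) * h2 |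
    linear_combination (B (v : V) y + B a y) * h2 | linear_combination -(B (v : V) y + B a y) * h2 |
    linear_combination (B (v : V) y - B a y) * h2 | linear_combination (B a y - B (v : V) y) * h2

include P hF in
theorem seven (u v w : perp B a f) (huv : B (u : V) v = 0) (huw : B (u : V) w = 0) (hvw : B (v : V) w = 0) :
    Symp.tr P.alt (u : V) 1 * Symp.tr P.alt (v : V) 1 * Symp.tr P.alt (w : V) 1 *
      Symp.tr P.alt ((u + v : perp B a f) : V) 1 * Symp.tr P.alt ((u + w : perp B a f) : V) 1 *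
      Symp.tr P.alt ((v + w : perp B a f) : V) 1 * Symp.tr P.alt ((u + v + w : perp B a f) : V) 1 = 1 := by
  have h2 : (2 : F) = 0 := (hF 2).resolve_right fun h => one_ne_zero (α := F) (by linear_combination h)
  refine Subtype.ext (LinearEquiv.ext fun y => ?_)
  simp only [Subgroup.coe_mul, LinearEquiv.mul_apply, Symp.tr_apply, map_add, LinearMap.add_apply,
    LinearMap.map_smul, LinearMap.smul_apply, smul_eq_mul, P.alt (u : V), P.alt (v : V), P.alt (w : V),
    Submodule.coe_add, huv, huw, hvw, P.sw (u : V) (v : V), P.sw (u : V) (w : V), P.sw (v : V) (w : V), neg_zero,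
    one_mul, mul_zero, add_zero, zero_add, zero_mul, zero_smul, Subgroup.coe_one]
  show _ = y
  match_scalars <;> first | ring1 |
    linear_combination (2 * B y (u : V) + B y (v : V) + B y (w : V)) * h2 |
    linear_combination (2 * B y (v : V) + B y (u : V) + B y (w : V)) * h2 |
    linear_combination (2 * B y (w : V) + B y (v : V) + B y (u : V)) * h2

include P C hF hdim

theorem hasComplement_two : P.HasComplement σ := by
  classical
  have h2 : (2 : F) = 0 := (hF 2).resolve_right fun h => one_ne_zero (α := F) (by linear_combination h)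
  have hneg : ∀ r : F, -r = r := fun r => by linear_combination (-r) * h2
  have hs1 : ∀ {x y : V}, B x y ≠ 0 → B x y = 1 := fun h => (hF _).resolve_left h
  obtain ⟨T, hT⟩ : ∃ T, T = Symp.tr P.alt a (1 : F) := ⟨_, rfl⟩
  obtain ⟨τ0, hτ0⟩ : ∃ τ0, σ τ0 = T := ⟨C.lf _, C.σ_lf _⟩
  have hfix : ∀ g : Symp.Sp B, (g : V ≃ₗ[F] V) a = a → Commute g T := fun g hg => by
    rw [commute_iff_eq, ← mul_inv_eq_iff_eq_mul, hT, Symp.conj_tr, hg]
  let χ : Symp.Sp B → Γ := fun g => C.cm g T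
  have hχmul : ∀ g g' : Symp.Sp B, (g' : V ≃ₗ[F] V) a = a → χ (g * g') = χ g' * χ g := fun g g' hg' =>
    C.cm_add_left (hfix g' hg')
  have hχc : ∀ g : Symp.Sp B, (g : V ≃ₗ[F] V) a = a → σ (χ g) = 1 := fun g hg => C.cm_central (hfix g hg)
  have hχconj : ∀ p g : Symp.Sp B, (p : V ≃ₗ[F] V) a = a → (g : V ≃ₗ[F] V) a = a → χ (p * g * p⁻¹) = χ g := by
    intro p g hp hg
    have h := C.cm_conj_eq (hfix g hg) p
    rwa [show p * T * p⁻¹ = T by rw [(hfix p hp).eq, mul_inv_cancel_right]] at h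
  have hχ1 : χ 1 = 1 := C.cm_one_left T
  have hχT : χ T = 1 := by
    show C.cm T T = 1
    rw [← C.comm_eq hτ0 hτ0, commutatorElement_self]
  -- the character of the centraliser vanishes on transvections of the complement
  have hκconst : ∀ u u' : perp B a f, u ≠ 0 → u' ≠ 0 →
      χ (Symp.tr P.alt (u : V) 1) = χ (Symp.tr P.alt (u' : V) 1) := by
    intro u u' hu hu'
    obtain ⟨t, ht, htu⟩ := Symp.transitive_ne_zero P.alt (nondeg_perp P) u.2 u'.2
      (fun h => hu (Subtype.ext h)) (fun h => hu' (Subtype.ext h))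
    rw [← htu, ← Symp.conj_tr]
    exact (hχconj t _ (trGroup_le_LL P ht).1 (P.tr_mem_LL u 1).1).symm
  have hκ : ∀ u : perp B a f, χ (Symp.tr P.alt (u : V) 1) = 1 := by
    intro u
    rcases eq_or_ne u 0 with rfl | hu
    · rw [show Symp.tr P.alt ((0 : perp B a f) : V) (1 : F) = 1 from
        Subtype.ext (LinearEquiv.ext fun y => by simp [Symp.tr_apply]), hχ1]
    obtain ⟨v, hv1, hv0⟩ := exists_orth (B := B) hdim (k := 3) (l := 1) (by norm_num) ![a, f, (u : V)] ![(u : V)]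
    obtain ⟨w, hw1, hw0⟩ := exists_orth (B := B) hdim (k := 4) (l := 2) (by norm_num) ![a, f, (u : V), v] ![(u : V), v]
    obtain ⟨v', rfl⟩ : ∃ v' : perp B a f, v = v' := ⟨⟨v, by simpa using hv0 0, by simpa using hv0 1⟩, rfl⟩
    obtain ⟨w', rfl⟩ : ∃ w' : perp B a f, w = w' := ⟨⟨w, by simpa using hw0 0, by simpa using hw0 1⟩, rfl⟩
    have huv : B (u : V) v' = 0 := by simpa using hv0 2
    have huw : B (u : V) w' = 0 := by simpa using hw0 2
    have hvw : B (v' : V) w' = 0 := by simpa using hw0 3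
    have m1 : (u : V) ∈ Submodule.span F (Set.range ![(u : V), (v' : V)]) := Submodule.subset_span ⟨0, rfl⟩
    have m2 : (v' : V) ∈ Submodule.span F (Set.range ![(u : V), (v' : V)]) := Submodule.subset_span ⟨1, rfl⟩
    have m0 : (u : V) ∈ Submodule.span F (Set.range ![(u : V)]) := Submodule.subset_span ⟨0, rfl⟩
    have n1 : v' ≠ 0 := fun h => hv1 (by simp [h])
    have n2 : w' ≠ 0 := fun h => hw1 (by simp [h])
    have n3 : u + v' ≠ 0 := fun h => hv1 (by
      rw [eq_neg_of_add_eq_zero_right h, Submodule.coe_neg]; exact neg_mem m0)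
    have n4 : u + w' ≠ 0 := fun h => hw1 (by
      rw [eq_neg_of_add_eq_zero_right h, Submodule.coe_neg]; exact neg_mem m1)
    have n5 : v' + w' ≠ 0 := fun h => hw1 (by
      rw [eq_neg_of_add_eq_zero_right h, Submodule.coe_neg]; exact neg_mem m2)
    have n6 : u + v' + w' ≠ 0 := fun h => hw1 (by
      rw [eq_neg_of_add_eq_zero_right h, Submodule.coe_neg, Submodule.coe_add]; exact neg_mem (add_mem m1 m2))
    have h7 := congrArg χ (seven P hF u v' w' huv huw hvw)
    have hf' : ∀ x : perp B a f, (Symp.tr P.alt (x : V) (1 : F) : V ≃ₗ[F] V) a = a := fun x =>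
      (P.tr_mem_LL x 1).1
    rw [hχmul _ _ (hf' _), hχmul _ _ (hf' _), hχmul _ _ (hf' _), hχmul _ _ (hf' _), hχmul _ _ (hf' _),
      hχmul _ _ (hf' _), hκconst v' u n1 hu, hκconst w' u n2 hu, hκconst _ u n3 hu, hκconst _ u n4 hu,
      hκconst _ u n5 hu, hκconst _ u n6 hu, hχ1] at h7
    have hsq : χ (Symp.tr P.alt (u : V) 1) * χ (Symp.tr P.alt (u : V) 1) = 1 := by
      rw [← hχmul _ _ (hf' u), Symp.tr_mul, show (1 : F) + 1 = 0 by linear_combination h2, Symp.tr_zero, hχ1]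
    simpa [hsq, mul_assoc] using h7
  have hχLL : ∀ g ∈ P.LL, χ g = 1 := by
    intro g hg
    have hg' := LL_gen P hg
    unfold Symp.trGroup at hg'
    induction hg' using Subgroup.closure_induction with
    | mem x hx =>
      obtain ⟨u, hu, c, rfl⟩ := hx
      rcases hF c with rfl | rfl
      · rw [Symp.tr_zero, hχ1]
      · exact hκ ⟨u, hu⟩
    | one => exact hχ1
    | mul x y hx hy ihx ihy =>
      rw [hχmul x y (trGroup_le_LL P hy).1, ihx (trGroup_le_LL P hx), ihy (trGroup_le_LL P hy), one_mul]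
    | inv x hx ih =>
      have hm := trGroup_le_LL P hx
      have h1 := hχmul x⁻¹ x hm.1
      rw [inv_mul_cancel, hχ1, ih hm, one_mul] at h1
      exact h1.symm
  have htfix : ∀ v : perp B a f, (Symp.tr P.alt (a + (v : V)) (1 : F) : V ≃ₗ[F] V) a = a := fun v =>
    Symp.tr_fix P.alt 1 (by simp [P.alt a, P.av])
  have hχx : ∀ v, χ (P.x v 0) = 1 := by
    intro v
    rcases eq_or_ne v 0 with rfl | hv
    · rw [P.x_zero, hχ1]
    obtain ⟨w, hw⟩ := P.exists_dual hv
    have e : Symp.tr P.alt (a + (v : V)) 1 = P.x w 0 * Symp.tr P.alt (v : V) 1 * (P.x w 0)⁻¹ := by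
      rw [Symp.conj_tr, P.x_perp, P.sw (v : V) (w : V), hw, hneg, one_smul, add_comm]
    rw [x_eq_tr P hF v, hχmul _ _ (P.tr_mem_LL v 1).1, hχmul _ _ (htfix v), hκ v, e,
      hχconj _ _ (P.x_a w 0) (P.tr_mem_LL v 1).1, hκ v, ← hT, hχT, one_mul, one_mul]
  have hχall : ∀ g : Symp.Sp B, (g : V ≃ₗ[F] V) a = a → χ g = 1 := by
    intro g hg
    obtain ⟨w, hw⟩ := P.decomp ((g : V ≃ₗ[F] V) f - f)
    have h0 : B a ((g : V ≃ₗ[F] V) f - f) = 0 := by
      rw [map_sub, P.af, sub_eq_zero]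
      conv_lhs => rw [← hg]
      exact (g.2 a f).trans P.af
    rw [h0, zero_smul, add_zero] at hw
    obtain ⟨t, ht⟩ : ∃ t, t = B ((g : V ≃ₗ[F] V) f - f) f := ⟨_, rfl⟩
    rw [← ht] at hw
    have hL : (P.x w t)⁻¹ * g ∈ P.LL := by
      refine ⟨?_, ?_⟩
      · rw [Subgroup.coe_mul, Subgroup.coe_inv, LinearEquiv.mul_apply, LinearEquiv.coe_inv,
          LinearEquiv.symm_apply_eq, P.x_a, hg]
      · rw [Subgroup.coe_mul, Subgroup.coe_inv, LinearEquiv.mul_apply, LinearEquiv.coe_inv,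
          LinearEquiv.symm_apply_eq, P.x_f]
        calc (g : V ≃ₗ[F] V) f = f + ((g : V ≃ₗ[F] V) f - f) := by abel
          _ = _ := by rw [hw]; abel
    have hxx : χ (P.x w t) = 1 := by
      rw [show P.x w t = P.x w 0 * P.x 0 t by rw [P.x_mul]; simp, hχmul _ _ (P.x_a 0 t), hχx w, mul_one,
        P.x_zero_eq_tr, hneg]
      rcases hF t with rfl | rfl
      · rw [Symp.tr_zero, hχ1]
      · rw [← hT, hχT]
    rw [show g = P.x w t * ((P.x w t)⁻¹ * g) by group, hχmul _ _ hL.1, hχLL _ hL, hxx, one_mul]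
  -- canonical lifts of transvections
  have hcent : ∀ δ, (σ δ : V ≃ₗ[F] V) a = a → δ * τ0 * δ⁻¹ = τ0 := fun δ hδ => by
    rw [(C.commute_of_cm rfl hτ0 (hχall _ hδ)).eq, mul_inv_cancel_right]
  obtain ⟨τ, hτ⟩ : ∃ τ : V → Γ, ∀ γ, τ ((σ γ : V ≃ₗ[F] V) a) = γ * τ0 * γ⁻¹ := by
    refine ⟨fun u => if h : ∃ γ, (σ γ : V ≃ₗ[F] V) a = u then h.choose * τ0 * h.choose⁻¹ else 1, fun γ => ?_⟩
    have hex : ∃ γ', (σ γ' : V ≃ₗ[F] V) a = (σ γ : V ≃ₗ[F] V) a := ⟨γ, rfl⟩
    show (if h : ∃ γ', (σ γ' : V ≃ₗ[F] V) a = (σ γ : V ≃ₗ[F] V) a then h.choose * τ0 * h.choose⁻¹ else 1) = _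
    rw [dif_pos hex]
    have h := hcent (γ⁻¹ * hex.choose) (by
      rw [map_mul, map_inv, Subgroup.coe_mul, Subgroup.coe_inv, LinearEquiv.mul_apply, LinearEquiv.coe_inv,
        LinearEquiv.symm_apply_eq, hex.choose_spec])
    calc hex.choose * τ0 * hex.choose⁻¹ = γ * ((γ⁻¹ * hex.choose) * τ0 * (γ⁻¹ * hex.choose)⁻¹) * γ⁻¹ := by group
      _ = _ := by rw [h]
  have hex : ∀ u : V, u ≠ 0 → ∃ γ, (σ γ : V ≃ₗ[F] V) a = u := fun u hu => by
    obtain ⟨t, -, ht⟩ := Symp.sp_transitive_ne_zero P.alt P.nondeg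
      (Symp.ne_zero_of_apply_ne_zero (B := B) (u := a) (v := f) (by rw [P.af]; exact one_ne_zero)) hu
    exact ⟨C.lf t, by rw [C.σ_lf]; exact ht⟩
  have hτeq : ∀ γ, ∀ u : V, u ≠ 0 → γ * τ u * γ⁻¹ = τ ((σ γ : V ≃ₗ[F] V) u) := fun γ u hu => by
    obtain ⟨δ, rfl⟩ := hex u hu
    rw [hτ, ← LinearEquiv.mul_apply, ← Subgroup.coe_mul, ← map_mul, hτ]
    group
  have hστ : ∀ u : V, u ≠ 0 → σ (τ u) = Symp.tr P.alt u 1 := fun u hu => by
    obtain ⟨δ, rfl⟩ := hex u hu
    rw [hτ, map_mul, map_mul, map_inv, hτ0, hT, Symp.conj_tr]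
  have hτcomm : ∀ u u' : V, u ≠ 0 → u' ≠ 0 → B u' u = 0 → Commute (τ u) (τ u') := fun u u' hu hu' h => by
    rw [commute_iff_eq, ← mul_inv_eq_iff_eq_mul, hτeq _ _ hu', hστ u hu, Symp.tr_fix P.alt 1 h]
  -- lifts of the radical
  have ha0 : a ≠ 0 := Symp.ne_zero_of_apply_ne_zero (B := B) (v := f) (by rw [P.af]; exact one_ne_zero)
  have hav0 : ∀ v : perp B a f, a + (v : V) ≠ 0 := fun v h => by
    have := P.af
    rw [eq_neg_of_add_eq_zero_left h, LinearMap.map_neg₂, P.vf, neg_zero] at this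
    exact zero_ne_one this
  have hc0 : ∀ {v : perp B a f}, v ≠ 0 → (v : V) ≠ 0 := fun hv h => hv (Subtype.ext h)
  obtain ⟨γm, hγm⟩ : ∃ γm : perp B a f → Γ, γm = fun v : perp B a f => τ a * τ (a + (v : V)) * τ (v : V) := ⟨_, rfl⟩
  have hσγ : ∀ v, v ≠ 0 → σ (γm v) = P.x v 0 := fun v hv => by
    rw [hγm, map_mul, map_mul, hστ _ ha0, hστ _ (hav0 v), hστ _ (hc0 hv), ← x_eq_tr P hF]
  have hγL : ∀ γ, ∀ hγ : σ γ ∈ P.LL, ∀ v, v ≠ 0 → γ * γm v * γ⁻¹ = γm (P.act _ hγ v) := fun γ hγ v hv => by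
    simp only [hγm]
    rw [show γ * (τ a * τ (a + (v : V)) * τ (v : V)) * γ⁻¹ =
      (γ * τ a * γ⁻¹) * (γ * τ (a + (v : V)) * γ⁻¹) * (γ * τ (v : V) * γ⁻¹) by group, hτeq _ _ ha0,
      hτeq _ _ (hav0 v), hτeq _ _ (hc0 hv), hγ.1, map_add, hγ.1]
    rfl
  have hγa : ∀ v, v ≠ 0 → Commute (γm v) (τ a) := fun v hv => by
    rw [commute_iff_eq, ← mul_inv_eq_iff_eq_mul, hτeq _ _ ha0, hσγ v hv, P.x_a]
  have hγcomm : ∀ v w, v ≠ 0 → w ≠ 0 → Commute (γm v) (γm w) := fun v w hv hw => by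
    rw [commute_iff_eq, ← mul_inv_eq_iff_eq_mul]
    conv_lhs => rw [show γm w = τ a * τ (a + (w : V)) * τ (w : V) by rw [hγm]]
    rw [show γm v * (τ a * τ (a + (w : V)) * τ (w : V)) * (γm v)⁻¹ = (γm v * τ a * (γm v)⁻¹) *
      (γm v * τ (a + (w : V)) * (γm v)⁻¹) * (γm v * τ (w : V) * (γm v)⁻¹) by group, hτeq _ _ ha0,
      hτeq _ _ (hav0 w), hτeq _ _ (hc0 hw), hσγ v hv, P.x_a, map_add, P.x_a, P.x_perp]
    simp only [hγm]
    rcases hF (B (v : V) w) with h | h <;> rw [h]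
    · rw [zero_smul, add_zero]
    · rw [one_smul, show a + ((w : V) + a) = w by
        rw [add_comm (w : V) a, ← add_assoc, ← two_smul F a, h2, zero_smul, zero_add], add_comm (w : V) a,
        mul_assoc, mul_assoc, (hτcomm _ _ (hc0 hw) (hav0 w) (by
          rw [map_add, LinearMap.add_apply, P.av, P.alt (w : V), add_zero])).eq]
  obtain ⟨ε, hε⟩ : ∃ ε : F → Γ → Γ, ε = fun r x => if r = 0 then 1 else x := ⟨_, rfl⟩
  obtain ⟨z, hz⟩ : ∃ z : perp B a f → perp B a f → Γ,
      z = fun v w => γm v * γm w * (γm (v + w) * ε (B (v : V) w) (τ a))⁻¹ := ⟨_, rfl⟩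
  have hx1 : σ (τ a) = P.x 0 1 := by rw [hστ _ ha0, P.x_zero_eq_tr, hneg]
  have hsum : ∀ {v w : perp B a f}, v ≠ w → v + w ≠ 0 := fun {v w} h e => h (by
    have : (2 : F) • w = 0 := by rw [h2, zero_smul]
    rw [two_smul] at this
    exact add_right_cancel (e.trans this.symm))
  have hzc : ∀ v w, v ≠ 0 → w ≠ 0 → v ≠ w → σ (z v w) = 1 := fun v w hv hw hvw => by
    simp only [hz]
    rw [map_mul, map_mul, map_inv, map_mul, hσγ v hv, hσγ w hw, hσγ _ (hsum hvw), P.x_mul, hε]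
    rcases hF (B (v : V) w) with h | h
    · simp [h]
    · simp [h, hx1, P.x_mul]
  have hzinv : ∀ γ, ∀ hγ : σ γ ∈ P.LL, ∀ v w, v ≠ 0 → w ≠ 0 → v ≠ w →
      z v w = z (P.act _ hγ v) (P.act _ hγ w) := fun γ hγ v w hv hw hvw => by
    conv_lhs => rw [← mul_inv_cancel_right (z v w) γ, ← (C.ker_comm (hzc v w hv hw hvw) γ).eq]
    simp only [hz]
    rw [P.B_act, show P.act _ hγ v + P.act _ hγ w = P.act _ hγ (v + w) from
      Subtype.ext (by simp [Pair.act]), ← hγL γ hγ v hv, ← hγL γ hγ w hw, ← hγL γ hγ _ (hsum hvw)]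
    have ea : γ * τ a * γ⁻¹ = τ a := by rw [hτeq _ _ ha0, hγ.1]
    have eε : γ * ε (B (v : V) w) (τ a) * γ⁻¹ = ε (B (v : V) w) (τ a) := by
      rw [hε]; simp only; split_ifs
      · group
      · exact ea
    conv_rhs => rw [← eε]
    group
  obtain ⟨e0, he0, he0'⟩ := exists_orth (B := B) hdim (k := 2) (l := 0) (by norm_num) ![a, f] ![]
  obtain ⟨e, rfl⟩ : ∃ e : perp B a f, e0 = e := ⟨⟨e0, by simpa using he0' 0, by simpa using he0' 1⟩, rfl⟩
  have hene : e ≠ 0 := fun h => he0 (by simp [h])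
  obtain ⟨g, heg⟩ := P.exists_dual hene
  have hgne : g ≠ 0 := fun h => by simp [h] at heg
  have heg' : e ≠ g := fun h => by simp [h, P.alt (g : V)] at heg
  obtain ⟨r0, hr0, hr0'⟩ := exists_orth (B := B) hdim (k := 3) (l := 1) (by norm_num) ![a, f, (e : V)] ![(e : V)]
  obtain ⟨r, rfl⟩ : ∃ r : perp B a f, r0 = r := ⟨⟨r0, by simpa using hr0' 0, by simpa using hr0' 1⟩, rfl⟩
  have hrne : r ≠ 0 := fun h => hr0 (by simp [h])
  have her : e ≠ r := fun h => hr0 (Submodule.subset_span ⟨0, by simp [h]⟩)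
  have her0 : B (e : V) r = 0 := by simpa using hr0' 2
  have hlift : ∀ t ∈ Symp.trGroup P.alt (perp B a f), σ (C.lf t) ∈ P.LL := fun t ht => by
    rw [C.σ_lf]; exact trGroup_le_LL P ht
  have hclass1 : ∀ v w : perp B a f, B (v : V) w = 1 → z v w = z e g := fun v w hvw => by
    have hv : v ≠ 0 := fun h => by simp [h] at hvw
    have hw : w ≠ 0 := fun h => by simp [h] at hvw
    have hne : v ≠ w := fun h => by simp [h, P.alt (w : V)] at hvw
    obtain ⟨t, ht, htv, htw⟩ := Symp.transitive_hyperbolic P.alt (nondeg_perp P) v.2 w.2 e.2 g.2 hvw heg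
    rw [hzinv _ (hlift t ht) v w hv hw hne]
    congr 1 <;> refine Subtype.ext ?_ <;> simp [Pair.act, C.σ_lf, htv, htw]
  have hclass0 : ∀ v w : perp B a f, v ≠ 0 → w ≠ 0 → v ≠ w → B (v : V) w = 0 → z v w = z e r := by
    have step : ∀ w1 w2 : perp B a f, w1 ≠ 0 → w2 ≠ 0 → e ≠ w1 → e ≠ w2 → B (e : V) w1 = 0 → B (e : V) w2 = 0 →
        B (w1 : V) w2 ≠ 0 → z e w1 = z e w2 := fun w1 w2 h1 h2' h3 h4 h5 h6 h7 => by
      obtain ⟨t, ht, hte, htw⟩ := Symp.exists_tr_fixing P.alt (U := perp B a f) (u := (e : V)) w1.2 w2.2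
        (by rw [h5, h6]) h7
      rw [hzinv _ (hlift t ht) e w1 hene h1 h3]
      congr 1 <;> refine Subtype.ext ?_ <;> simp [Pair.act, C.σ_lf, hte, htw]
    have hind : ∀ w : perp B a f, w ≠ 0 → e ≠ w → ∀ k : F, w ≠ k • e := fun w hw hew k hk => by
      rcases hF k with rfl | rfl
      · exact hw (by rw [hk, zero_smul])
      · exact hew (by rw [hk, one_smul])
    intro v w hv hw hvw hB
    obtain ⟨t, ht, htv⟩ := Symp.transitive_ne_zero P.alt (nondeg_perp P) v.2 e.2 (hc0 hv) (hc0 hene)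
    have hγ := hlift t ht
    rw [hzinv _ hγ v w hv hw hvw, show P.act _ hγ v = e from Subtype.ext (by simp [Pair.act, C.σ_lf, htv])]
    obtain ⟨w', hw'⟩ : ∃ w', w' = P.act _ hγ w := ⟨_, rfl⟩
    rw [← hw']
    have he1 : P.act _ hγ v = e := Subtype.ext (by simp [Pair.act, C.σ_lf, htv])
    have hinj : ∀ x y, P.act _ hγ x = P.act _ hγ y → x = y := fun x y h =>
      Subtype.ext ((σ (C.lf t) : V ≃ₗ[F] V).injective (congrArg Subtype.val h))
    have k1 : w' ≠ 0 := fun h => hw (hinj w 0 (by rw [← hw', h]; exact (Subtype.ext (map_zero _)).symm))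
    have k2 : e ≠ w' := fun h => hvw (hinj v w (by rw [← hw', he1, h]))
    have k3 : B (e : V) w' = 0 := by rw [← he1, hw', P.B_act, hB]
    by_cases h12 : B (w' : V) r = 0
    · obtain ⟨y1, y1e, y1w⟩ := P.exists_sep hene (hind w' k1 k2) 0 1
      obtain ⟨y2, y2e, y2r⟩ := P.exists_sep hene (hind r hrne her) 0 1
      obtain ⟨y, ye, yw, yr⟩ : ∃ y : perp B a f, B (e : V) y = 0 ∧ B (w' : V) y = 1 ∧ B (r : V) y = 1 := by
        rcases hF (B (r : V) y1) with q1 | q1
        · rcases hF (B (w' : V) y2) with q2 | q2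
          · exact ⟨y1 + y2, by simp [y1e, y2e], by simp [y1w, q2], by simp [y2r, q1]⟩
          · exact ⟨y2, y2e, q2, y2r⟩
        · exact ⟨y1, y1e, y1w, q1⟩
      have k4 : y ≠ 0 := fun h => by simp [h] at yw
      have k5 : e ≠ y := fun h => by
        rw [← h, P.sw (e : V) (w' : V), k3, neg_zero] at yw; exact zero_ne_one yw
      rw [step w' y k1 k4 k2 k5 k3 ye (by rw [yw]; exact one_ne_zero),
        ← step r y hrne k4 her k5 her0 ye (by rw [yr]; exact one_ne_zero)]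
    · exact step w' r k1 hrne k2 her k3 her0 h12
  obtain ⟨z0, hz0⟩ : ∃ z0, z0 = z e r := ⟨_, rfl⟩
  obtain ⟨z1, hz1⟩ : ∃ z1, z1 = z e g := ⟨_, rfl⟩
  have hz0c : ∀ x, Commute x z0 := C.ker_comm (hz0 ▸ hzc e r hene hrne her)
  have hz1c : ∀ x, Commute x z1 := C.ker_comm (hz1 ▸ hzc e g hene hgne heg')
  obtain ⟨tt, htt⟩ : ∃ tt, tt = τ a * z1 * z0⁻¹ := ⟨_, rfl⟩
  obtain ⟨μ, hμ⟩ : ∃ μ : perp B a f → Γ, μ = fun v => if v = 0 then 1 else γm v * z0⁻¹ := ⟨_, rfl⟩
  have hμ0 : μ 0 = 1 := by rw [hμ]; exact if_pos rfl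
  have hμne : ∀ v, v ≠ 0 → μ v = γm v * z0⁻¹ := fun v hv => by rw [hμ]; exact if_neg hv
  have hμcomm : ∀ v w, Commute (μ v) (μ w) := fun v w => by
    rcases eq_or_ne v 0 with rfl | hv
    · rw [hμ0]; exact Commute.one_left _
    rcases eq_or_ne w 0 with rfl | hw
    · rw [hμ0]; exact Commute.one_right _
    rw [hμne v hv, hμne w hw]
    exact ((hγcomm v w hv hw).mul_right ((hz0c _).inv_right)).mul_left
      (((hz0c (γm w)).inv_right.symm).mul_right ((Commute.refl _)))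
  have hμtt : ∀ v, Commute (μ v) tt := fun v => by
    rcases eq_or_ne v 0 with rfl | hv
    · rw [hμ0]; exact Commute.one_left _
    rw [hμne v hv, htt]
    exact ((((hγa v hv).mul_right (hz1c _)).mul_right (hz0c _).inv_right)).mul_left
      (((hz0c _).inv_right).symm)
  have hprod : ∀ v w : perp B a f, v ≠ 0 → w ≠ 0 → v ≠ w → μ v * μ w = μ (v + w) * ε (B (v : V) w) tt := fun v w hv hw hvw => by
    rw [hμne v hv, hμne w hw, hμne _ (hsum hvw)]
    have e1 : γm v * γm w = γm (v + w) * ε (B (v : V) w) (τ a) * z v w := by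
      rw [← (C.ker_comm (hzc v w hv hw hvw) _).symm.eq, hz]; group
    rw [show γm v * z0⁻¹ * (γm w * z0⁻¹) = γm v * (z0⁻¹ * γm w) * z0⁻¹ by group, ← ((hz0c (γm w)).inv_right).eq,
      show γm v * (γm w * z0⁻¹) * z0⁻¹ = γm v * γm w * (z0⁻¹ * z0⁻¹) by group, e1, hε]
    rcases hF (B (v : V) w) with h | h
    · rw [hclass0 v w hv hw hvw h, ← hz0]; simp [h]
    · rw [hclass1 v w h, ← hz1]
      simp only [h, one_ne_zero, if_false, htt]
      rw [show γm (v + w) * z0⁻¹ * (τ a * z1 * z0⁻¹) = γm (v + w) * (z0⁻¹ * (τ a * z1)) * z0⁻¹ by group,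
        ← ((hz0c (τ a * z1)).inv_right).eq]
      group
  obtain ⟨ζ, hζ⟩ : ∃ ζ : perp B a f → Γ, ζ = fun v => μ v * μ v := ⟨_, rfl⟩
  have hsq : ∀ v, μ v * μ v = 1 := by
    have hσμ : ∀ v, v ≠ 0 → σ (μ v) = P.x v 0 := fun v hv => by
      rw [hμne v hv, map_mul, map_inv, hz0, hzc e r hene hrne her, inv_one, mul_one, hσγ v hv]
    have hker : ∀ v, v ≠ 0 → σ (ζ v) = 1 := fun v hv => by
      rw [hζ, map_mul, hσμ v hv, P.x_mul, ← P.x_zero]
      congr 1
      · rw [← two_smul F v, h2, zero_smul]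
      · simp [P.alt (v : V)]
    have hinv : ∀ v, v ≠ 0 → ζ v = ζ e := fun v hv => by
      obtain ⟨t, ht, htv⟩ := Symp.transitive_ne_zero P.alt (nondeg_perp P) v.2 e.2 (hc0 hv) (hc0 hene)
      have hγ := hlift t ht
      have he1 : P.act _ hγ v = e := Subtype.ext (by simp [Pair.act, C.σ_lf, htv])
      conv_lhs => rw [← mul_inv_cancel_right (ζ v) (C.lf t), ← (C.ker_comm (hker v hv) _).eq]
      rw [hζ]
      simp only [hμne v hv, hμne e hene]
      rw [← he1, ← hγL _ hγ v hv]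
      rw [show C.lf t * γm v * (C.lf t)⁻¹ * z0⁻¹ = C.lf t * γm v * ((C.lf t)⁻¹ * z0⁻¹) by group,
        ((hz0c (C.lf t)⁻¹).inv_right).eq]
      group
    intro v
    rcases eq_or_ne v 0 with rfl | hv
    · rw [hμ0, one_mul]
    obtain ⟨q0, hq0, hq0'⟩ := exists_orth (B := B) hdim (k := 3) (l := 1) (by norm_num) ![a, f, (v : V)] ![(v : V)]
    obtain ⟨q, rfl⟩ : ∃ q : perp B a f, q0 = q := ⟨⟨q0, by simpa using hq0' 0, by simpa using hq0' 1⟩, rfl⟩
    have hq : q ≠ 0 := fun h => hq0 (by simp [h])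
    have hqv : v ≠ q := fun h => hq0 (Submodule.subset_span ⟨0, by simp [h]⟩)
    have hpne : v + q ≠ 0 := hsum hqv
    have hvq : B (v : V) q = 0 := by simpa using hq0' 2
    have hpq : v + q ≠ q := fun h => hv (add_eq_right.1 h)
    have h := hprod (v + q) q hpne hq hpq
    rw [add_assoc, ← two_smul F q, h2, zero_smul, add_zero, Submodule.coe_add, map_add, LinearMap.add_apply, hvq,
      P.alt (q : V), add_zero] at h
    rw [hε] at h
    simp only [if_true, mul_one] at h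
    have hvv : ζ v = ζ (v + q) * ζ q := by
      rw [hζ]
      dsimp only
      rw [← h, (hμcomm (v + q) q).mul_mul_mul_comm]
    rw [hinv v hv, hinv _ hpne, hinv q hq] at hvv
    have : ζ e = 1 := mul_eq_left.1 hvv.symm
    rw [← show ζ v = μ v * μ v by rw [hζ], hinv v hv, this]
  have htt2 : tt * tt = 1 := by
    have h := hprod e g hene hgne heg'
    rw [heg, hε] at h
    simp only [one_ne_zero, if_false] at h
    have h' : μ e * μ g * (μ e * μ g) = μ (e + g) * tt * (μ (e + g) * tt) := by rw [h]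
    rw [(hμcomm g e).mul_mul_mul_comm, hsq, hsq, one_mul, ((hμtt (e + g)).symm).mul_mul_mul_comm, hsq,
      one_mul] at h'
    exact h'.symm
  have hεadd : ∀ s t, ε s tt * ε t tt = ε (s + t) tt := fun s t => by
    rw [hε]
    rcases hF s with rfl | rfl <;> rcases hF t with rfl | rfl <;>
      simp [show (1 : F) + 1 = 0 by linear_combination h2, htt2]
  have hall : ∀ v w : perp B a f, μ v * μ w = μ (v + w) * ε (B (v : V) w) tt := fun v w => by
    rcases eq_or_ne v 0 with rfl | hv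
    · simp [hμ0, hε]
    rcases eq_or_ne w 0 with rfl | hw
    · simp [hμ0, hε]
    rcases eq_or_ne v w with rfl | hvw
    · rw [hsq, ← two_smul F v, h2, zero_smul, hμ0, hε]; simp [P.alt (v : V)]
    · exact hprod v w hv hw hvw
  refine P.hasComplement_of_section σ (fun v t => μ v * ε t tt) (fun v t => ?_) (fun v w t s => ?_)
    (fun γ hγ v t => ?_)
  · have hz0σ : σ z0 = 1 := hz0 ▸ hzc e r hene hrne her
    have hz1σ : σ z1 = 1 := hz1 ▸ hzc e g hene hgne heg'
    have h1 : σ (μ v) = P.x v 0 := by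
      rcases eq_or_ne v 0 with rfl | hv
      · rw [hμ0, map_one, P.x_zero]
      · rw [hμne v hv, map_mul, map_inv, hz0σ, inv_one, mul_one, hσγ v hv]
    have h2' : σ (ε t tt) = P.x 0 t := by
      rw [hε]
      rcases hF t with rfl | rfl
      · simp [P.x_zero]
      · simp [htt, hz0σ, hz1σ, hx1]
    rw [map_mul, h1, h2', P.x_mul]; simp
  · have hc' : ∀ r v, Commute (ε r tt) (μ v) := fun r v => by
      rw [hε]; dsimp only; split_ifs
      · exact Commute.one_left _
      · exact (hμtt v).symm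
    rw [(hc' t w).mul_mul_mul_comm, hall, mul_assoc, hεadd, hεadd]
    congr 2; ring
  · have h1 : γ * μ v * γ⁻¹ = μ (P.act _ hγ v) := by
      rcases eq_or_ne v 0 with rfl | hv
      · rw [show P.act _ hγ 0 = 0 from Subtype.ext (map_zero _), hμ0]; group
      · have hv' : P.act _ hγ v ≠ 0 := fun h => hv (Subtype.ext ((σ γ : V ≃ₗ[F] V).injective
          ((congrArg Subtype.val h).trans (map_zero _).symm)))
        rw [hμne v hv, hμne _ hv', ← hγL γ hγ v hv, show γ * (γm v * z0⁻¹) * γ⁻¹ = γ * γm v * (z0⁻¹ * γ⁻¹) by group,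
          ← ((hz0c γ⁻¹).inv_right).eq]
        group
    have h2' : γ * ε t tt * γ⁻¹ = ε t tt := by
      rw [hε]; dsimp only; split_ifs
      · group
      · rw [htt, show γ * (τ a * z1 * z0⁻¹) * γ⁻¹ = γ * τ a * ((z1 * z0⁻¹) * γ⁻¹) by group,
          ← (((hz1c γ⁻¹)).mul_right (hz0c γ⁻¹).inv_right).eq, show γ * τ a * (γ⁻¹ * (z1 * z0⁻¹)) =
            (γ * τ a * γ⁻¹) * z1 * z0⁻¹ by group, hτeq _ _ ha0, hγ.1]
    rw [← h1]
    conv_rhs => rw [← h2']
    group

end CfsgLib.Known.SympMult
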