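import Cfsg.Agent.Lib.Known.SympMult.Model
import Cfsg.Agent.Lib.Known.SympMult.OddChar
import Cfsg.Agent.Lib.Known.SympMult.EvenChar
import Cfsg.Agent.Lib.Known.SympMult.TwoField

/-!
# The symplectic groups have no proper stem extensions
-/

set_option autoImplicit false
set_option linter.unusedSectionVars false

namespace CfsgLib.Known.SympMult

open Matrix CfsgLib.Classical

variable {m : ℕ} {F : Type*} [Field F] [Finite F]

/-- upper vector of a coordinate pair -/
def aVec (j : Fin m) : Idx m → F := Pi.single (Sum.inl j) 1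

/-- lower vector of a coordinate pair -/
def fVec (j : Fin m) : Idx m → F := -Pi.single (Sum.inr j) 1

theorem form_single (u : Idx m → F) (y : Idx m) :
    Symp.sympBil m F u (Pi.single y 1) = eps y * -u y.swap * -1 * -1 * -1 := by
  rw [Symp.sympBil_apply, Cfsg.sympForm, Matrix.mulVec_single_one]
  simp only [dotProduct, Matrix.col_apply, J_entry]
  rw [Finset.sum_eq_single y.swap]
  · rw [if_pos (Sum.swap_swap y).symm, eps_swap]; ring
  · intro b _ hb; rw [if_neg (fun e => hb (by rw [e, Sum.swap_swap])), mul_zero]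
  · simp

theorem form_single_left (u : Idx m → F) (y : Idx m) :
    Symp.sympBil m F (Pi.single y 1) u = -(eps y * -u y.swap * -1 * -1 * -1) := by
  rw [Symp.swap (Symp.sympBil_isAlt m F) u (Pi.single y 1), form_single]

theorem pair (j : Fin m) : Pair (Symp.sympBil m F) (aVec j) (fVec j) where
  alt := Symp.sympBil_isAlt m F
  nondeg := Symp.sympBil_nondegenerate m F
  af := by rw [fVec, map_neg, form_single, aVec]; simp [eps]

theorem mem_perp_single {j : Fin m} {x : Idx m} (h1 : x ≠ Sum.inl j) (h2 : x ≠ Sum.inr j) :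
    (Pi.single x (1 : F) : Idx m → F) ∈ perp (Symp.sympBil m F) (aVec j) (fVec j) := by
  refine ⟨?_, ?_⟩
  · rw [aVec, form_single_left, Sum.swap_inl, Pi.single_eq_of_ne (Ne.symm h2)]; ring
  · rw [fVec, LinearMap.map_neg₂, form_single_left, Sum.swap_inr, Pi.single_eq_of_ne (Ne.symm h1)]; ring

theorem exists_hyperbolic (hm : 2 ≤ m) (j : Fin m) :
    ∃ e g : perp (Symp.sympBil m F) (aVec j) (fVec j), Symp.sympBil m F (e : Idx m → F) g = 1 := by
  have : Nontrivial (Fin m) := Fin.nontrivial_iff_two_le.2 hm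
  obtain ⟨i, hi⟩ := exists_ne j
  refine ⟨⟨_, mem_perp_single (x := Sum.inl i) (by simp [hi]) (by simp)⟩,
    -⟨_, mem_perp_single (x := Sum.inr i) (by simp) (by simp [hi])⟩, ?_⟩
  rw [Submodule.coe_neg, map_neg, form_single]
  simp [eps]

theorem perp_support {j : Fin m} (w : perp (Symp.sympBil m F) (aVec j) (fVec j)) :
    (w : Idx m → F) (Sum.inl j) = 0 ∧ (w : Idx m → F) (Sum.inr j) = 0 := by
  obtain ⟨h1, h2⟩ := w.2
  change Symp.sympBil m F (Pi.single (Sum.inl j) 1) (w : Idx m → F) = 0 at h1
  change Symp.sympBil m F (-Pi.single (Sum.inr j) 1) (w : Idx m → F) = 0 at h2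
  rw [form_single_left] at h1
  rw [LinearMap.map_neg₂, form_single_left] at h2
  simp [eps] at h1 h2
  exact ⟨h2, h1⟩

/-- unitriangular elements fixing the first coordinate pairs -/
def ladder (m : ℕ) (F : Type*) [Field F] [Finite F] (j : ℕ) : Subgroup (Matrix.symplecticGroup (Fin m) F) where
  carrier := {g | g ∈ upper m F ∧ ∀ i : Fin m, i.1 < j →
    (g : Matrix (Idx m) (Idx m) F) *ᵥ Pi.single (Sum.inl i) 1 = Pi.single (Sum.inl i) 1 ∧
    (g : Matrix (Idx m) (Idx m) F) *ᵥ Pi.single (Sum.inr i) 1 = Pi.single (Sum.inr i) 1}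
  one_mem' := ⟨one_mem _, fun i _ => ⟨by rw [OneMemClass.coe_one, Matrix.one_mulVec],
    by rw [OneMemClass.coe_one, Matrix.one_mulVec]⟩⟩
  mul_mem' := by
    intro a b ha hb
    refine ⟨mul_mem ha.1 hb.1, fun i hi => ⟨?_, ?_⟩⟩ <;> rw [Submonoid.coe_mul, ← Matrix.mulVec_mulVec]
    · rw [(hb.2 i hi).1, (ha.2 i hi).1]
    · rw [(hb.2 i hi).2, (ha.2 i hi).2]
  inv_mem' := by
    intro a ha
    refine ⟨inv_mem ha.1, fun i hi => ⟨?_, ?_⟩⟩
    · conv_lhs => rw [← (ha.2 i hi).1]
      rw [Matrix.mulVec_mulVec, ← Submonoid.coe_mul, inv_mul_cancel, OneMemClass.coe_one, Matrix.one_mulVec]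
    · conv_lhs => rw [← (ha.2 i hi).2]
      rw [Matrix.mulVec_mulVec, ← Submonoid.coe_mul, inv_mul_cancel, OneMemClass.coe_one, Matrix.one_mulVec]

theorem ladder_top {g : Matrix.symplecticGroup (Fin m) F} (h : g ∈ ladder m F m) : g = 1 := by
  refine Subtype.ext (Matrix.ext_of_mulVec_single fun x => ?_)
  rw [OneMemClass.coe_one, Matrix.one_mulVec]
  rcases x with i | i
  exacts [(h.2 i i.2).1, (h.2 i i.2).2]

variable {Γ : Type*} [Group Γ]

theorem complement_ladder (π : Γ →* Matrix.symplecticGroup (Fin m) F)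
    (hc : ∀ j : Fin m, (pair (F := F) j).HasComplement ((Symp.symplecticEquiv m F).toMonoidHom.comp π)) :
    ∀ d j : ℕ, j + d = m → ∃ M : Subgroup Γ, M.map π = ladder m F j ∧ ∀ x ∈ M, π x = 1 → x = 1 := by
  intro d
  induction d with
  | zero =>
    intro j hj
    refine ⟨⊥, ?_, fun x hx _ => Subgroup.mem_bot.1 hx⟩
    rw [Subgroup.map_bot, eq_comm, Subgroup.eq_bot_iff_forall]
    obtain rfl : j = m := by omega
    exact fun g hg => ladder_top hg
  | succ d ih =>
    intro j hj
    obtain ⟨M', hM', hM'1⟩ := ih (j + 1) (by omega)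
    obtain ⟨jf, hjf⟩ : ∃ jf : Fin m, jf.1 = j := ⟨⟨j, by omega⟩, rfl⟩
    obtain ⟨M0, hM0, hM01, hM0n⟩ := hc jf
    have P := pair (F := F) jf
    obtain ⟨E, hE⟩ : ∃ E, E = Symp.symplecticEquiv m F := ⟨_, rfl⟩
    rw [← hE] at hM0 hM01 hM0n
    have happ : ∀ (g : Matrix.symplecticGroup (Fin m) F) v, (E g : (Idx m → F) ≃ₗ[F] (Idx m → F)) v =
        (g : Matrix (Idx m) (Idx m) F) *ᵥ v := fun g v => hE ▸ Symp.symplecticEquiv_apply g v
    obtain ⟨N, hN⟩ : ∃ N, N = M0 ⊓ (ladder m F j).comap π := ⟨_, rfl⟩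
    have hstab : ∀ g ∈ ladder m F (j + 1), E g ∈ (pair jf).LL := by
      intro g hg
      refine ⟨?_, ?_⟩
      · rw [happ]; exact (hg.2 jf (by omega)).1
      · rw [happ, fVec, Matrix.mulVec_neg, (hg.2 jf (by omega)).2]
    have hle : ladder m F (j + 1) ≤ ladder m F j := fun g hg => ⟨hg.1, fun i hi => hg.2 i (by omega)⟩
    have hnorm : ∀ x ∈ M', ∀ y ∈ N, x * y * x⁻¹ ∈ N := by
      intro x hx y hy
      have hxl : π x ∈ ladder m F (j + 1) := hM' ▸ ⟨x, hx, rfl⟩
      rw [hN] at hy ⊢
      refine ⟨hM0n x ?_ y hy.1, ?_⟩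
      · exact hstab _ hxl
      · show π (x * y * x⁻¹) ∈ ladder m F j
        rw [map_mul, map_mul, map_inv]
        exact mul_mem (mul_mem (hle hxl) hy.2) (inv_mem (hle hxl))
    let M : Subgroup Γ :=
      { carrier := {z | ∃ n ∈ N, ∃ x ∈ M', z = n * x}
        one_mem' := ⟨1, one_mem _, 1, one_mem _, (mul_one _).symm⟩
        mul_mem' := by
          rintro _ _ ⟨n, hn, x, hx, rfl⟩ ⟨n', hn', x', hx', rfl⟩
          exact ⟨n * (x * n' * x⁻¹), mul_mem hn (hnorm x hx n' hn'), x * x', mul_mem hx hx', by group⟩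
        inv_mem' := by
          rintro _ ⟨n, hn, x, hx, rfl⟩
          exact ⟨x⁻¹ * n⁻¹ * x⁻¹⁻¹, hnorm _ (inv_mem hx) _ (inv_mem hn), x⁻¹, inv_mem hx, by group⟩ }
    refine ⟨M, le_antisymm ?_ ?_, ?_⟩
    · rintro _ ⟨_, ⟨n, hn, x, hx, rfl⟩, rfl⟩
      rw [map_mul]
      exact mul_mem (hN ▸ hn).2 (hle (hM' ▸ ⟨x, hx, rfl⟩))
    · intro g hg
      obtain ⟨hgu, hgfix⟩ := hg
      have hga : (g : Matrix (Idx m) (Idx m) F) *ᵥ aVec jf = aVec jf := by
        funext r
        rw [aVec, Matrix.mulVec_single_one, Matrix.col_apply, Pi.single_apply]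
        by_cases hr : hgt r ≤ hgt (Sum.inl jf)
        · rw [hgu r _ hr, Matrix.one_apply]
        · have hri : ∃ i : Fin m, r = Sum.inl i ∧ i.1 < j := by
            rcases r with i | i
            · refine ⟨i, rfl, ?_⟩
              simp [hgt] at hr
              omega
            · exfalso
              simp [hgt] at hr
              have := i.2
              have := jf.2
              omega
          obtain ⟨i, rfl, hi⟩ := hri
          have h := ((E g).2 (aVec jf) (Pi.single (Sum.inr i) 1))
          simp only [happ, (hgfix i hi).2, form_single, aVec, Matrix.mulVec_single_one, Matrix.col_apply,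
            Sum.swap_inr] at h
          have hne : (Sum.inl i : Idx m) ≠ Sum.inl jf := by simp; intro e; rw [e] at hi; omega
          rw [Pi.single_eq_of_ne hne] at h
          rw [if_neg hne]
          simpa [eps] using h
      obtain ⟨w, hw⟩ := P.decomp ((g : Matrix (Idx m) (Idx m) F) *ᵥ fVec jf - fVec jf)
      have hform : ∀ u v, Symp.sympBil m F ((g : Matrix (Idx m) (Idx m) F) *ᵥ u)
          ((g : Matrix (Idx m) (Idx m) F) *ᵥ v) = Symp.sympBil m F u v := fun u v => by
        have := (E g).2 u v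
        simp only [happ] at this
        exact this
      have h0 : Symp.sympBil m F (aVec jf) ((g : Matrix (Idx m) (Idx m) F) *ᵥ fVec jf - fVec jf) = 0 := by
        rw [map_sub, P.af, sub_eq_zero]
        conv_lhs => rw [← hga]
        exact (hform _ _).trans P.af
      rw [h0, zero_smul, add_zero] at hw
      obtain ⟨t, ht⟩ : ∃ t, t = Symp.sympBil m F ((g : Matrix (Idx m) (Idx m) F) *ᵥ fVec jf - fVec jf) (fVec jf) :=
        ⟨_, rfl⟩
      rw [← ht] at hw
      obtain ⟨xg, hxg⟩ : ∃ xg, E xg = P.x w t := ⟨E.symm (P.x w t), E.apply_symm_apply _⟩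
      have hxapp : ∀ y, (xg : Matrix (Idx m) (Idx m) F) *ᵥ y = y + Symp.sympBil m F (w : Idx m → F) y • aVec jf +
          Symp.sympBil m F (aVec jf) y • (w : Idx m → F) + (t * Symp.sympBil m F (aVec jf) y) • aVec jf := fun y => by
        rw [← happ, hxg, P.x_apply]
      have hBw : ∀ i : Fin m, i.1 < j → Symp.sympBil m F (w : Idx m → F) (Pi.single (Sum.inl i) 1) = 0 ∧
          Symp.sympBil m F (w : Idx m → F) (Pi.single (Sum.inr i) 1) = 0 := by
        intro i hi
        have hij : i ≠ jf := fun e => by rw [e] at hi; omega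
        have key : ∀ e : Idx m, e ≠ Sum.inl jf → e ≠ Sum.inr jf →
            (g : Matrix (Idx m) (Idx m) F) *ᵥ Pi.single e 1 = Pi.single e 1 →
            Symp.sympBil m F (w : Idx m → F) (Pi.single e 1) = 0 := fun e e1 e2 he => by
          have hp := mem_perp_single (F := F) e1 e2
          have hw' : (w : Idx m → F) = (g : Matrix (Idx m) (Idx m) F) *ᵥ fVec jf - fVec jf - t • aVec jf := by
            rw [hw]; abel
          rw [hw', map_sub, map_sub, LinearMap.map_smul, LinearMap.sub_apply, LinearMap.sub_apply,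
            LinearMap.smul_apply, hp.1, smul_zero, sub_zero]
          conv_lhs => arg 1; rw [← he]
          rw [hform, sub_self]
        exact ⟨key _ (by simp [hij]) (by simp) (hgfix i hi).1, key _ (by simp) (by simp [hij]) (hgfix i hi).2⟩
      obtain ⟨hw1, hw2⟩ := perp_support w
      have hsupp : ∀ r : Idx m, (w : Idx m → F) r ≠ 0 → |hgt r| < (m : ℤ) - j := by
        intro r hr
        rcases r with i | i
        · have hne : i ≠ jf := fun e => hr (by rw [e]; exact hw1)
          have hlt : ¬ i.1 < j := fun h => hr (by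
            have := (hBw i h).2
            rw [form_single] at this
            simpa [eps] using this)
          have := i.2
          have : i.1 ≠ j := fun e => hne (Fin.ext (e.trans hjf.symm))
          simp only [hgt, Sum.elim_inl]
          rw [abs_lt]; omega
        · have hne : i ≠ jf := fun e => hr (by rw [e]; exact hw2)
          have hlt : ¬ i.1 < j := fun h => hr (by
            have := (hBw i h).1
            rw [form_single] at this
            simpa [eps] using this)
          have := i.2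
          have : i.1 ≠ j := fun e => hne (Fin.ext (e.trans hjf.symm))
          simp only [hgt, Sum.elim_inr]
          rw [abs_lt]; omega
      have hxu : xg ∈ upper m F := by
        intro r c hrc
        have hcol := congrFun (hxapp (Pi.single c 1)) r
        rw [Matrix.mulVec_single_one, Matrix.col_apply] at hcol
        rw [hcol]
        simp only [Pi.add_apply, Pi.smul_apply, smul_eq_mul, form_single, Matrix.one_apply, Pi.single_apply, aVec]
        by_cases hc' : c = Sum.inr jf
        · subst hc'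
          have h1 : r ≠ Sum.inl jf := fun e => by
            rw [e] at hrc; simp [hgt] at hrc; have := jf.2; omega
          have h2 : (w : Idx m → F) r = 0 := by
            by_contra h
            have := abs_lt.1 (hsupp r h)
            rw [show hgt (Sum.inr jf : Idx m) = (jf.1 : ℤ) - m from rfl] at hrc
            omega
          rw [if_neg h1, h2]
          ring
        · have h3 : c.swap ≠ Sum.inl jf := fun e => hc' (by rw [← Sum.swap_swap c, e]; rfl)
          rw [if_neg h3]
          by_cases h4 : r = Sum.inl jf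
          · have h5 : (w : Idx m → F) c.swap = 0 := by
              by_contra h
              have := abs_lt.1 (hsupp _ h)
              rw [hgt_swap] at this
              rw [h4] at hrc
              simp [hgt] at hrc this
              omega
            rw [h5]
            ring
          · rw [if_neg h4]; ring
      have hxl : xg ∈ ladder m F j := by
        refine ⟨hxu, fun i hi => ?_⟩
        have hij : i ≠ jf := fun e => by rw [e] at hi; omega
        refine ⟨?_, ?_⟩
        · rw [hxapp, (hBw i hi).1, (mem_perp_single (F := F) (j := jf) (x := Sum.inl i) (by simp [hij]) (by simp)).1]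
          simp
        · rw [hxapp, (hBw i hi).2, (mem_perp_single (F := F) (j := jf) (x := Sum.inr i) (by simp) (by simp [hij])).1]
          simp
      have hrest : xg⁻¹ * g ∈ ladder m F (j + 1) := by
        obtain ⟨q1, q2⟩ := mul_mem (inv_mem hxl) (show g ∈ ladder m F j from ⟨hgu, hgfix⟩)
        refine ⟨q1, fun i hi => ?_⟩
        rcases lt_or_eq_of_le (Nat.lt_succ_iff.1 hi) with h | h
        · exact q2 i h
        obtain rfl : i = jf := Fin.ext (h.trans hjf.symm)
        have e1 : (xg : Matrix (Idx m) (Idx m) F) *ᵥ aVec i = aVec i := by rw [← happ, hxg, P.x_a]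
        have e2 : (xg : Matrix (Idx m) (Idx m) F) *ᵥ fVec i = (g : Matrix (Idx m) (Idx m) F) *ᵥ fVec i := by
          rw [← happ, hxg, P.x_f]
          calc fVec i + (w : Idx m → F) + t • aVec i = fVec i + (t • aVec i + (w : Idx m → F)) := by abel
            _ = _ := by rw [← hw]; abel
        have hcanc : ∀ v, ((xg⁻¹ : Matrix.symplecticGroup (Fin m) F) : Matrix (Idx m) (Idx m) F) *ᵥ
            ((xg : Matrix (Idx m) (Idx m) F) *ᵥ v) = v := fun v => by
          rw [Matrix.mulVec_mulVec, ← Submonoid.coe_mul, inv_mul_cancel, OneMemClass.coe_one, Matrix.one_mulVec]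
        refine ⟨?_, ?_⟩
        · rw [Submonoid.coe_mul, ← Matrix.mulVec_mulVec, show Pi.single (Sum.inl i) (1 : F) = aVec i from rfl, hga]
          conv_lhs => arg 2; rw [← e1]
          exact hcanc _
        · rw [Submonoid.coe_mul, ← Matrix.mulVec_mulVec, show Pi.single (Sum.inr i) (1 : F) = -fVec i by
            rw [fVec, neg_neg], Matrix.mulVec_neg, Matrix.mulVec_neg, ← e2, hcanc]
      obtain ⟨x', hx', ex'⟩ : xg⁻¹ * g ∈ M'.map π := hM'.symm ▸ hrest
      obtain ⟨y, hy, ey⟩ : E xg ∈ M0.map (E.toMonoidHom.comp π) := by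
        rw [hM0, hxg]; exact P.x_mem w t
      have ey' : π y = xg := E.injective ey
      refine ⟨y * x', ⟨y, hN ▸ ⟨hy, ?_⟩, x', hx', rfl⟩, by rw [map_mul, ey', ex', mul_inv_cancel_left]⟩
      show π y ∈ ladder m F j
      rw [ey']; exact hxl
    · rintro _ ⟨n, hn, x, hx, rfl⟩ h1
      rw [hN] at hn
      have hxl : π x ∈ ladder m F (j + 1) := hM' ▸ ⟨x, hx, rfl⟩
      obtain ⟨v, s, hv⟩ : E (π n) ∈ P.QQ := hM0 ▸ ⟨n, hn.1, rfl⟩
      have hnL : E (π n) ∈ P.LL := by
        rw [map_mul] at h1
        rw [eq_inv_of_mul_eq_one_left h1, map_inv]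
        exact inv_mem (hstab _ hxl)
      have hn1 : E (π n) = 1 := by
        rw [hv]
        have hf := hnL.2
        rw [hv, P.x_f, add_assoc] at hf
        have h2 : (v : Idx m → F) + s • aVec jf = 0 := add_eq_left.1 hf
        have h3 := congrArg (Symp.sympBil m F (fVec jf)) h2
        simp [P.fv, P.fa] at h3
        subst h3
        simp at h2
        subst h2
        exact P.x_zero
      obtain rfl : n = 1 := hM01 n hn.1 hn1
      rw [one_mul] at h1 ⊢
      exact hM'1 x hx h1

/-- finite stem extensions of the symplectic group are trivial -/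
theorem ker_eq_bot_of_stem (hm : 2 ≤ m) (h4 : (∀ r : F, r = 0 ∨ r = 1) → 4 ≤ m) {Δ : Type*} [Group Δ] [Finite Δ]
    (σ : Δ →* Matrix.symplecticGroup (Fin m) F) (hσ : Cfsg.IsStemExtension σ) : σ.ker = ⊥ := by
  obtain ⟨p, hp⟩ := CharP.exists F
  have hpp : p.Prime := (CharP.char_is_prime_or_zero F p).resolve_right fun h => by
    subst h
    have := CharP.charP_to_charZero F
    exact not_finite F
  have : Fact p.Prime := ⟨hpp⟩
  have hU : IsPGroup p (sympSys (m := m) (F := F) p).U := upper_isPGroup (by omega)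
  refine RootLift.ker_eq_bot_of_parts p (fun Γ _ _ π h hcop =>
    (sympSys (m := m) (F := F) p).ker_eq_bot_of_coprime hU hpp (gen p) (torusFree p) h hcop) ?_ σ hσ
  intro Γ _ _ π h hZ
  obtain ⟨hs, hc, -⟩ := id h
  obtain ⟨E, hE⟩ : ∃ E, E = Symp.symplecticEquiv m F := ⟨_, rfl⟩
  have hker : (E.toMonoidHom.comp π).ker = π.ker := by
    ext x
    simp [MonoidHom.mem_ker]
  have C : CExt (E.toMonoidHom.comp π) := ⟨E.surjective.comp hs, hker ▸ hc⟩
  have hcompl : ∀ j : Fin m, (pair (F := F) j).HasComplement (E.toMonoidHom.comp π) := by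
    intro j
    by_cases h2 : (2 : F) = 0
    · by_cases hF : ∀ r : F, r = 0 ∨ r = 1
      · refine hasComplement_two (pair j) C hF ?_
        rw [Symp.finrank_sympSpace]
        have := h4 hF
        omega
      · push Not at hF
        obtain ⟨c, hc0, hc1⟩ := hF
        exact hasComplement_even (pair j) C h2 hc0 hc1 (exists_hyperbolic hm j)
    · have hp2 : p ≠ 2 := fun e => h2 (by subst e; exact_mod_cast CharP.cast_eq_zero F 2)
      exact hasComplement_odd (pair j) C h2 (odd_sqrt hp2 (hker ▸ hZ)) (exists_hyperbolic hm j)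
  obtain ⟨M, hM, hM1⟩ := complement_ladder π (hE ▸ hcompl) m 0 (zero_add m)
  refine RootLift.ker_eq_bot_of_complement hpp h hZ
    ((sympSys (m := m) (F := F) p).not_dvd_index hU hpp (gen p)) (M := M) ?_ hM1
  rw [hM]
  exact le_antisymm (fun g hg => hg.1) fun g hg => ⟨hg, fun i hi => absurd hi (Nat.not_lt_zero _)⟩

end CfsgLib.Known.SympMult
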