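import Cfsg.Agent.Lib.Known.SympMult.Heis
import Cfsg.Agent.Lib.Known.SLn.Sections

/-!
# Tools for central extensions of a symplectic group
-/

set_option autoImplicit false
set_option linter.unusedSectionVars false

namespace CfsgLib.Known.SympMult

open CfsgLib.Classical
open LinearMap (BilinForm)
open scoped commutatorElement

section Ext

variable {Q Γ : Type*} [Group Q] [Group Γ] (σ : Γ →* Q)

/-- a central extension -/
structure CExt : Prop where
  surj : Function.Surjective σ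
  central : σ.ker ≤ Subgroup.center Γ

variable {σ} (C : CExt σ)
include C

/-- lifted commutator -/
noncomputable def CExt.cm (C : CExt σ) (g h : Q) : Γ := SLn.cml σ C.surj g h

/-- chosen lift -/
noncomputable def CExt.lf (C : CExt σ) (g : Q) : Γ := SLn.lft σ C.surj g

theorem CExt.σ_lf (g : Q) : σ (C.lf g) = g := SLn.σ_lft σ C.surj g

theorem CExt.σ_cm (g h : Q) : σ (C.cm g h) = ⁅g, h⁆ := SLn.σ_cml σ C.surj g h

theorem CExt.comm_eq {a b : Γ} {g h : Q} (ha : σ a = g) (hb : σ b = h) : ⁅a, b⁆ = C.cm g h :=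
  SLn.comm_eq σ C.surj C.central ha hb

theorem CExt.cm_inv (g h : Q) : (C.cm g h)⁻¹ = C.cm h g := SLn.cml_inv σ C.surj g h

theorem CExt.ker_comm {z : Γ} (hz : σ z = 1) (g : Γ) : Commute g z :=
  Subgroup.mem_center_iff.1 (C.central hz) g

theorem CExt.diff {x y : Γ} (h : σ x = σ y) : ∃ z, σ z = 1 ∧ x = y * z :=
  ⟨y⁻¹ * x, by rw [map_mul, map_inv, h, inv_mul_cancel], by group⟩

theorem CExt.cm_central {g h : Q} (hgh : Commute g h) : σ (C.cm g h) = 1 := by
  rw [C.σ_cm, commutatorElement_eq_one_iff_commute.2 hgh]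

theorem CExt.conj_cm {γ : Γ} {p : Q} (hγ : σ γ = p) (g h : Q) :
    γ * C.cm g h * γ⁻¹ = C.cm (p * g * p⁻¹) (p * h * p⁻¹) := by
  rw [← C.comm_eq (a := γ * C.lf g * γ⁻¹) (b := γ * C.lf h * γ⁻¹) (g := p * g * p⁻¹) (h := p * h * p⁻¹)
    (by simp [hγ, C.σ_lf]) (by simp [hγ, C.σ_lf]), ← C.comm_eq (C.σ_lf g) (C.σ_lf h)]
  simp only [commutatorElement_def]
  group

theorem CExt.cm_conj_eq {g h : Q} (hgh : Commute g h) (p : Q) :
    C.cm (p * g * p⁻¹) (p * h * p⁻¹) = C.cm g h := by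
  rw [← C.conj_cm (C.σ_lf p), (C.ker_comm (C.cm_central hgh) _).eq, mul_inv_cancel_right]

theorem CExt.cm_mul_left {g g' h : Q} (hg : ∀ x y : Γ, σ x = g → σ y = ⁅g', h⁆ → Commute x y) :
    C.cm (g * g') h = C.cm g' h * C.cm g h := by
  rw [CExt.cm, SLn.cml_mul_left σ C.surj C.central,
    (hg (SLn.lft σ C.surj g) (SLn.cml σ C.surj g' h) (SLn.σ_lft σ C.surj g) (SLn.σ_cml σ C.surj g' h)).eq,
    mul_inv_cancel_right]
  rfl

theorem CExt.cm_mul_right {g h h' : Q} (hg : ∀ x y : Γ, σ x = h → σ y = ⁅g, h'⁆ → Commute x y) :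
    C.cm g (h * h') = C.cm g h * C.cm g h' := by
  rw [CExt.cm, SLn.cml_mul_right σ C.surj C.central,
    (hg (SLn.lft σ C.surj h) (SLn.cml σ C.surj g h') (SLn.σ_lft σ C.surj h) (SLn.σ_cml σ C.surj g h')).eq,
    mul_inv_cancel_right]
  rfl

theorem CExt.cm_add_left {g g' h : Q} (h' : Commute g' h) : C.cm (g * g') h = C.cm g' h * C.cm g h :=
  C.cm_mul_left fun x y _ hy => C.ker_comm (by rw [hy, commutatorElement_eq_one_iff_commute.2 h']) x

theorem CExt.cm_add_right {g h h' : Q} (h1 : Commute g h') : C.cm g (h * h') = C.cm g h * C.cm g h' :=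
  C.cm_mul_right fun x y _ hy => C.ker_comm (by rw [hy, commutatorElement_eq_one_iff_commute.2 h1]) x

theorem CExt.commute_of_cm {a b : Γ} {g h : Q} (ha : σ a = g) (hb : σ b = h) (h1 : C.cm g h = 1) :
    Commute a b := by
  rw [← commutatorElement_eq_one_iff_commute, C.comm_eq ha hb, h1]

theorem CExt.cm_one_right (g : Q) : C.cm g 1 = 1 := by
  rw [← C.comm_eq (C.σ_lf g) (map_one σ), commutatorElement_one_right]

theorem CExt.cm_one_left (g : Q) : C.cm 1 g = 1 := by
  rw [← C.comm_eq (map_one σ) (C.σ_lf g), commutatorElement_one_left]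

end Ext

/-- square roots in a `p`-group of odd order -/
theorem odd_sqrt {K : Type*} [Group K] [Finite K] {p : ℕ} [Fact p.Prime] (hp : p ≠ 2) (hK : IsPGroup p K) :
    Function.Bijective fun z : K => z ^ 2 := by
  obtain ⟨n, hn⟩ := IsPGroup.iff_card.1 hK
  have h2 : (Nat.card K).Coprime 2 := by
    rw [hn]
    exact Nat.Coprime.pow_left n ((Nat.coprime_primes (Fact.out) Nat.prime_two).2 hp)
  exact (powCoprime h2).bijective

section Section

variable {F : Type*} [Field F] {V : Type*} [AddCommGroup V] [Module F V] {B : BilinForm F V} {a f : V}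
  (P : Pair B a f) {Γ : Type*} [Group Γ] (σ : Γ →* Symp.Sp B)

/-- a complement of the kernel over the radical, normalised by the stabiliser of the pair -/
def Pair.HasComplement (P : Pair B a f) : Prop :=
  ∃ M : Subgroup Γ, M.map σ = P.QQ ∧ (∀ x ∈ M, σ x = 1 → x = 1) ∧
    ∀ g, σ g ∈ P.LL → ∀ x ∈ M, g * x * g⁻¹ ∈ M

theorem Pair.hasComplement_of_section (μ : perp B a f → F → Γ)
    (hσ : ∀ v t, σ (μ v t) = P.x v t)
    (hmul : ∀ v w t s, μ v t * μ w s = μ (v + w) (t + s + B (v : V) w))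
    (hconj : ∀ g, ∀ hg : σ g ∈ P.LL, ∀ v t, g * μ v t * g⁻¹ = μ (P.act (σ g) hg v) t) :
    P.HasComplement σ := by
  have h1 : μ 0 0 = 1 := by
    have := hmul 0 0 0 0
    simp only [Submodule.coe_zero, map_zero, add_zero] at this
    exact mul_eq_left.1 this
  let M : Subgroup Γ :=
    { carrier := {x | ∃ v t, x = μ v t}
      one_mem' := ⟨0, 0, h1.symm⟩
      mul_mem' := by rintro _ _ ⟨v, t, rfl⟩ ⟨w, s, rfl⟩; exact ⟨_, _, hmul v w t s⟩
      inv_mem' := by
        rintro _ ⟨v, t, rfl⟩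
        refine ⟨-v, -t, inv_eq_of_mul_eq_one_right ?_⟩
        rw [hmul, add_neg_cancel, Submodule.coe_neg, map_neg, P.alt (v : V), neg_zero, add_neg_cancel, add_zero,
          h1] }
  refine ⟨M, le_antisymm ?_ ?_, ?_, ?_⟩
  · rintro _ ⟨_, ⟨v, t, rfl⟩, rfl⟩
    exact ⟨v, t, hσ v t⟩
  · rintro _ ⟨v, t, rfl⟩
    exact ⟨μ v t, ⟨v, t, rfl⟩, hσ v t⟩
  · rintro _ ⟨v, t, rfl⟩ h
    rw [hσ, ← P.x_zero] at h
    obtain ⟨rfl, rfl⟩ := P.x_inj h
    exact h1
  · rintro g hg _ ⟨v, t, rfl⟩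
    exact ⟨_, t, hconj g hg v t⟩

include P in
theorem Pair.commute_x0_LL {g : Symp.Sp B} (hg : g ∈ P.LL) (t : F) : Commute g (P.x 0 t) := by
  rw [commute_iff_eq, ← mul_inv_eq_iff_eq_mul, P.conj_x hg,
    show P.act g hg 0 = 0 from Subtype.ext (map_zero _)]

include P in
theorem Pair.commute_x0 (v : perp B a f) (t s : F) : Commute (P.x v t) (P.x 0 s) := by
  rw [commute_iff_eq, P.x_mul, P.x_mul]
  simp [add_comm t s]

include P in
theorem Pair.comm_x (v w : perp B a f) : ⁅P.x v 0, P.x w 0⁆ = P.x 0 (2 * B (v : V) w) := by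
  rw [commutatorElement_def, P.x_inv, P.x_inv, P.x_mul, P.x_mul, P.x_mul]
  simp only [Submodule.coe_add, Submodule.coe_neg, map_add, map_neg, LinearMap.add_apply, LinearMap.neg_apply,
    P.alt (v : V), P.alt (w : V), P.sw (v : V) (w : V), neg_zero, add_zero, zero_add, neg_neg]
  rw [show v + w + -v + -w = (0 : perp B a f) by abel]
  congr 1
  ring

end Section

end CfsgLib.Known.SympMult
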