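import Cfsg.Agent.Lib.Known.SympMult.Upper
import Cfsg.Agent.Lib.Known.RootLift.Main

/-!
# The root system data of the matrix symplectic group
-/

set_option autoImplicit false
set_option linter.unusedSectionVars false

namespace CfsgLib.Known.SympMult

open Matrix

variable {m : ℕ} {F : Type*} [Field F] [Finite F]

/-- upper index of a simple root -/
def si (k : Fin m) : Idx m := Sum.inl k

/-- lower index of a simple root -/
def sj (k : Fin m) : Idx m := if h : k.1 + 1 < m then Sum.inl ⟨k.1 + 1, h⟩ else Sum.inr k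

theorem adj (k : Fin m) : hgt (si k) = (m : ℤ) - k.1 ∧
    ((k.1 + 1 < m ∧ hgt (sj k) = (m : ℤ) - k.1 - 1) ∨ (k.1 + 1 = m ∧ hgt (sj k) = -1)) := by
  refine ⟨rfl, ?_⟩
  unfold sj
  split_ifs with h
  · exact Or.inl ⟨h, by simp [hgt]; omega⟩
  · exact Or.inr ⟨by have := k.2; omega, by simp [hgt]; have := k.2; omega⟩

theorem si_ne_sj (k : Fin m) : si k ≠ sj k := fun e => by
  have h := congrArg hgt e
  obtain ⟨h1, h2⟩ := adj k
  have := k.2
  omega

theorem sj_lt (k : Fin m) : hgt (sj k) < hgt (si k) := by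
  obtain ⟨h1, h2⟩ := adj k
  have := k.2
  omega

/-- permutation of a simple reflection -/
def sp (k : Fin m) : Equiv.Perm (Idx m) := rPerm (si k) (sj k)

theorem hgt_sp (k : Fin m) (a : Idx m) : hgt (sp k a) = if hgt a = hgt (si k) then hgt (sj k)
    else if hgt a = hgt (sj k) then hgt (si k) else if hgt a = -hgt (si k) then -hgt (sj k)
    else if hgt a = -hgt (sj k) then -hgt (si k) else hgt a := by
  rw [sp, rPerm_apply (si_ne_sj k)]
  simp only [← hgt_swap, hgt_inj.eq_iff]
  split_ifs <;> simp [hgt_swap]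

theorem sp_flip (k : Fin m) {r c : Idx m} (h1 : hgt r < hgt c) (h2 : hgt (sp k c) < hgt (sp k r)) :
    (c = si k ∧ r = sj k) ∨ (c = (sj k).swap ∧ r = (si k).swap) := by
  rw [hgt_sp, hgt_sp] at h2
  obtain ⟨e1, e2⟩ := adj k
  have := k.2
  have := hgt_ne r
  have := hgt_ne c
  have key : (hgt c = hgt (si k) ∧ hgt r = hgt (sj k)) ∨
      (hgt c = -hgt (sj k) ∧ hgt r = -hgt (si k)) := by
    split_ifs at h2 <;> omega
  rcases key with ⟨a, b⟩ | ⟨a, b⟩
  · exact Or.inl ⟨hgt_inj a, hgt_inj b⟩
  · exact Or.inr ⟨hgt_inj (by rw [a, hgt_swap]), hgt_inj (by rw [b, hgt_swap])⟩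

theorem sp_le (k : Fin m) {r c : Idx m} (hc : c = sj k ∨ c = (si k).swap) (hr : hgt r ≤ hgt c) :
    hgt (sp k r) ≤ hgt c ∨ sp k r = sp k c := by
  rcases eq_or_ne r c with rfl | hne
  · exact Or.inr rfl
  left
  rw [hgt_sp]
  obtain ⟨e1, e2⟩ := adj k
  have := k.2
  have := hgt_ne r
  have : hgt r ≠ hgt c := fun e => hne (hgt_inj e)
  rcases hc with rfl | rfl
  · split_ifs <;> omega
  · rw [hgt_swap] at *
    split_ifs <;> omega

theorem isMon_n (k : Fin m) {c : F} (hc : c ≠ 0) :
    IsMon (el (si k) (sj k) c * el (sj k) (si k) (-c⁻¹) * el (si k) (sj k) c) (sp k) (rCoef (si k) (sj k) c) :=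
  isMon_weyl (si_ne_sj k) hc

theorem isMon_h (k : Fin m) {c : F} (hc : c ≠ 0) :
    IsMon (el (si k) (sj k) c * el (sj k) (si k) (-c⁻¹) * el (si k) (sj k) c *
      (el (si k) (sj k) (-1) * el (sj k) (si k) 1 * el (si k) (sj k) (-1))) 1
      (fun x => if x = si k then c else if x = sj k then c⁻¹ else if x = (si k).swap then c⁻¹
        else if x = (sj k).swap then c else 1) := by
  have h := (isMon_n k hc).mul (isMon_n k (neg_ne_zero.2 (one_ne_zero (α := F))))
  rw [inv_neg, inv_one, neg_neg, show sp k * sp k = 1 from Equiv.ext fun a => rPerm_invol (si_ne_sj k) a] at h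
  convert h using 2 with x
  have hij := si_ne_sj k
  have h3 : (sj k).swap ≠ (si k).swap := fun e => hij (Sum.swap_leftInverse.injective e).symm
  have hi := (swap_ne (si k)).symm
  have hj := (swap_ne (sj k)).symm
  have he := eps_mul_self (F := F) (si k)
  have he' := eps_mul_self (F := F) (sj k)
  rw [sp, rPerm_apply hij]
  unfold rCoef
  by_cases hl : sj k = (si k).swap
  · rw [hl] at *
    rw [Sum.swap_swap] at *
    split_ifs <;> simp_all
  · have h2 : si k ≠ (sj k).swap := fun e => hl (by rw [e, Sum.swap_swap])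
    split_ifs <;> simp_all <;> grind

theorem mon_one_entry {g : Matrix.symplecticGroup (Fin m) F} {d : Idx m → F} (h : IsMon g 1 d) (r c : Idx m) :
    (g : Matrix (Idx m) (Idx m) F) r c = if r = c then d c else 0 := h.2 r c

/-- root system data -/
def sympSys (p : ℕ) [CharP F p] :
    RootLift.Sys (Matrix.symplecticGroup (Fin m) F) F p {q : Idx m × Idx m // q.1 ≠ q.2} (Fin m) where
  U := upper m F
  s k := ((sp k).prodCongr (sp k)).subtypeEquiv (fun q => ((sp k).injective.ne_iff).symm)
  s_sq k a := Subtype.ext (Prod.ext (rPerm_invol (si_ne_sj k) _) (rPerm_invol (si_ne_sj k) _))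
  pos q := hgt q.1.2 < hgt q.1.1
  sim k := ⟨(si k, sj k), si_ne_sj k⟩
  pos_sim k := sj_lt k
  R q t := el q.1.1 q.1.2 t
  N q t := el q.1.2 q.1.1 t
  R_add q t u := el_add _ _ t u
  N_add q t u := el_add _ _ t u
  R_mem q t h := el_mem_upper h t
  N_mem q t h := el_mem_upper (lt_of_le_of_ne (le_of_not_gt h) (fun e => q.2 (hgt_inj e))) t
  N_not q t h ht := el_not_mem_upper h ht
  conj_n k c hc q := by
    have h := isMon_n k hc
    refine ⟨rCoef (si k) (sj k) c q.1.1 / rCoef (si k) (sj k) c q.1.2,
      div_ne_zero (h.d_ne _) (h.d_ne _), fun t => h.conj_el q.2 t, fun t => ?_⟩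
    rw [h.conj_el q.2.symm t]
    show el _ _ _ = el (sp k q.1.2) (sp k q.1.1) _
    congr 1
    have := h.d_ne q.1.1
    have := h.d_ne q.1.2
    field_simp
  n_R k c hc t := by
    have h := isMon_n k hc
    have hij := si_ne_sj k
    rw [h.conj_el hij t]
    show el (sp k (si k)) (sp k (sj k)) _ = el (sj k) (si k) _
    rw [sp, rPerm_apply hij, rPerm_apply hij]
    simp [hij.symm, rCoef]
    congr 1
    field_simp
  flip k q h1 h2 := by
    have h2' : hgt (sp k q.1.1) < hgt (sp k q.1.2) :=
      lt_of_le_of_ne (le_of_not_gt h2) fun e => q.2 ((sp k).injective (hgt_inj e))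
    rcases sp_flip k h1 h2' with ⟨a, b⟩ | ⟨a, b⟩
    · refine ⟨1, one_ne_zero, fun t => ?_, fun t => ?_⟩ <;> simp [a, b]
    · by_cases hl : sj k = (si k).swap
      · refine ⟨1, one_ne_zero, fun t => ?_, fun t => ?_⟩ <;> simp [a, b, hl]
      · refine ⟨-(eps (si k) * eps (sj k)), by simp [eps_ne], fun t => ?_, fun t => ?_⟩
        · show el q.1.1 q.1.2 t = el (si k) (sj k) _
          rw [a, b, el_partner (si_ne_sj k) hl]
        · show el q.1.2 q.1.1 t = el (sj k) (si k) _
          rw [a, b, el_partner (si_ne_sj k).symm (fun e => hl (by rw [e, Sum.swap_swap]))]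
          congr 1
          have := eps_mul_self (F := F) (si k)
          have := eps_mul_self (F := F) (sj k)
          have := eps_ne (F := F) (si k)
          have := eps_ne (F := F) (sj k)
          field_simp
          grind
  h_mul k a b ha hb := by
    refine Subtype.ext (Matrix.ext fun r c => ?_)
    rw [((isMon_h k ha).mul (isMon_h k hb)).2, (isMon_h k (mul_ne_zero ha hb)).2]
    simp only [Equiv.Perm.one_apply, mul_one]
    split_ifs <;> simp_all [mul_comm]
  split k u hu := by
    have hij := si_ne_sj k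
    obtain ⟨u', hu'⟩ : ∃ u', u' = u * el (si k) (sj k) (-(u : Matrix (Idx m) (Idx m) F) (si k) (sj k)) := ⟨_, rfl⟩
    refine ⟨-(u : Matrix (Idx m) (Idx m) F) (si k) (sj k), fun c hc => ?_⟩
    rw [← hu']
    have hmem : u' ∈ upper m F := hu' ▸ mul_mem hu (el_mem_upper (sj_lt k) _)
    have h0 : (u' : Matrix (Idx m) (Idx m) F) (si k) (sj k) = 0 := by
      rw [hu', Submonoid.coe_mul, Matrix.mul_apply, Finset.sum_eq_add_of_mem (si k) (sj k) (Finset.mem_univ _)
        (Finset.mem_univ _) hij]
      · rw [el_entry hij, el_entry hij, hu (si k) (si k) le_rfl, nMat, nMat]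
        simp [hij, hij.symm, (swap_ne (si k)).symm, (swap_ne (sj k)).symm]
        split_ifs with h
        · exact absurd h.2.2 h.1
        · ring
      · intro l _ hl
        rw [el_entry hij, nMat, Matrix.one_apply_ne hl.2, if_neg (fun e => hl.1 e.1), if_neg]
        · ring
        · rintro ⟨h, -, e⟩; exact h e
    intro r' c' hrc
    obtain ⟨r, rfl⟩ := (sp k).surjective r'
    obtain ⟨x, rfl⟩ := (sp k).surjective c'
    obtain ⟨n, hn⟩ : ∃ n, n = el (si k) (sj k) c * el (sj k) (si k) (-c⁻¹) * el (si k) (sj k) c := ⟨_, rfl⟩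
    have h := hn ▸ isMon_n k hc
    rw [← hn]
    have key : ((n * u' * n⁻¹ : Matrix.symplecticGroup (Fin m) F) : Matrix (Idx m) (Idx m) F) (sp k r) (sp k x) *
        rCoef (si k) (sj k) c x = rCoef (si k) (sj k) c r * (u' : Matrix (Idx m) (Idx m) F) r x := by
      obtain ⟨M, hM⟩ : ∃ M, M = n * u' * n⁻¹ := ⟨_, rfl⟩
      have e : ((M * n : Matrix.symplecticGroup (Fin m) F) : Matrix (Idx m) (Idx m) F) (sp k r) x =
          ((n * u' : Matrix.symplecticGroup (Fin m) F) : Matrix (Idx m) (Idx m) F) (sp k r) x := by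
        rw [hM, inv_mul_cancel_right]
      rw [← hM]
      simp only [Submonoid.coe_mul] at e
      rw [Matrix.mul_apply, Matrix.mul_apply,
        Finset.sum_eq_single (sp k x), Finset.sum_eq_single r, h.2, h.2, if_pos rfl, if_pos rfl] at e
      · exact e
      · intro l _ hl; rw [h.2, if_neg (fun e => hl ((sp k).injective e).symm), zero_mul]
      · simp
      · intro l _ hl; rw [h.2, if_neg hl, mul_zero]
      · simp
    have hval : (u' : Matrix (Idx m) (Idx m) F) r x = (1 : Matrix (Idx m) (Idx m) F) r x := by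
      by_cases hle : hgt r ≤ hgt x
      · exact hmem r x hle
      rcases eq_or_ne r x with rfl | hne
      · exact hmem r r le_rfl
      have hlt : hgt (sp k r) < hgt (sp k x) :=
        lt_of_le_of_ne hrc fun e => hne ((sp k).injective (hgt_inj e))
      rcases sp_flip k (lt_of_not_ge hle) hlt with ⟨e1, e2⟩ | ⟨e1, e2⟩ <;> rw [e1, e2]
      · rw [h0, Matrix.one_apply_ne hij]
      · rw [Matrix.one_apply_ne (fun e => hij (Sum.swap_leftInverse.injective e).symm)]
        by_cases hl : sj k = (si k).swap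
        · rw [hl, Sum.swap_swap, ← hl, h0]
        · refine upper_partner hmem hl (fun l h1 h2 => ?_) (sj_lt k) h0
          obtain ⟨q1, q2⟩ := adj k
          have := k.2
          have := hgt_ne l
          rcases (show hgt l = hgt (si k) ∨ hgt l = hgt (sj k) by omega) with e | e
          · exact Or.inl (hgt_inj e)
          · exact Or.inr (hgt_inj e)
    rcases eq_or_ne r x with rfl | hne
    · rw [hval, Matrix.one_apply_eq, mul_one] at key
      rw [Matrix.one_apply_eq]
      exact mul_right_cancel₀ (h.d_ne r) (key.trans (one_mul _).symm)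
    · rw [hval, Matrix.one_apply_ne hne, mul_zero] at key
      rw [Matrix.one_apply_ne ((sp k).injective.ne hne)]
      exact (mul_eq_zero.1 key).resolve_right (h.d_ne x)

variable (p : ℕ) [CharP F p]

theorem torusFree : (sympSys (m := m) (F := F) p).TorusFree := by
  classical
  intro θ hθ x hx
  obtain ⟨w, hw⟩ : ∃ w : (Fin m → Fˣ) → Idx m → F, w = fun x r => ∏ k, if r = si k then (x k : F)
      else if r = sj k then ((x k)⁻¹ : Fˣ) else if r = (si k).swap then ((x k)⁻¹ : Fˣ)
      else if r = (sj k).swap then (x k : F) else 1 := ⟨_, rfl⟩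
  have hdiag : ∀ x, IsMon (θ x) 1 (w x) := by
    intro x
    have : ∀ s : Finset (Fin m), IsMon (θ (∏ k ∈ s, Pi.mulSingle k (x k))) 1
        (fun r => ∏ k ∈ s, if r = si k then (x k : F) else if r = sj k then ((x k)⁻¹ : Fˣ)
          else if r = (si k).swap then ((x k)⁻¹ : Fˣ) else if r = (sj k).swap then (x k : F) else 1) := by
      intro s
      induction s using Finset.induction with
      | empty => exact ⟨fun a => rfl, fun r c => by simp [Matrix.one_apply]⟩
      | @insert k s hk ih =>
        rw [Finset.prod_insert hk, map_mul, hθ]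
        have h := (isMon_h k (x k).ne_zero).mul ih
        rw [one_mul] at h
        convert h using 2 with r
        · rfl
        · rw [Finset.prod_insert hk]
          simp only [Equiv.Perm.one_apply, Units.val_inv_eq_inv_val]
          congr!
    have h := this Finset.univ
    rw [Finset.univ_prod_mulSingle] at h
    convert h using 2
    rw [hw]
  have h1 : ∀ r, w x r = 1 := fun r => by
    have := hx r r le_rfl
    rw [(hdiag x).2 r r, Matrix.one_apply_eq] at this
    simpa using this
  have key : ∀ n : ℕ, ∀ k : Fin m, k.1 = n → x k = 1 := by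
    intro n
    induction n using Nat.strong_induction_on with
    | _ n ih =>
    intro k hk
    have := h1 (si k)
    rw [hw] at this
    simp only at this
    rw [Finset.prod_eq_single k, if_pos rfl] at this
    · exact Units.ext this
    · intro l _ hl
      obtain ⟨a1, a2⟩ := adj l
      obtain ⟨b1, -⟩ := adj k
      have := k.2
      have := l.2
      have hl' : l.1 ≠ k.1 := fun e => hl (Fin.ext e)
      rw [if_neg (fun e => by have := congrArg hgt e; omega)]
      split_ifs with q1 q2 q3
      · have := congrArg hgt q1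
        rw [ih l.1 (by omega) l rfl]; simp
      · have := congrArg hgt q2
        rw [hgt_swap] at this
        omega
      · have := congrArg hgt q3
        rw [hgt_swap] at this
        omega
      · rfl
    · simp
  exact funext fun k => key k.1 k rfl

theorem gen : upper m F ⊔ (sympSys (m := m) (F := F) p).WeylGp = ⊤ := by
  classical
  rcases Nat.eq_zero_or_pos m with rfl | hm
  · rw [eq_top_iff, ← CfsgLib.Classical.Symp.closure_sympTransvection_eq_top, Subgroup.closure_le]
    rintro g -
    rw [show g = 1 from Subtype.ext (Matrix.ext fun r => r.elim (fun a => a.elim0) fun a => a.elim0)]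
    exact one_mem _
  obtain ⟨K, hK⟩ : ∃ K, K = upper m F ⊔ (sympSys (m := m) (F := F) p).WeylGp := ⟨_, rfl⟩
  rw [← hK]
  obtain ⟨top, htop⟩ : ∃ top : Idx m, top = Sum.inl ⟨0, hm⟩ := ⟨_, rfl⟩
  have hU : ∀ g ∈ upper m F, g ∈ K := fun g hg => hK ▸ Subgroup.mem_sup_left hg
  have hn : ∀ k : Fin m, el (si k) (sj k) (1 : F) * el (sj k) (si k) (-1⁻¹) * el (si k) (sj k) 1 ∈ K := fun k =>
    hK ▸ Subgroup.mem_sup_right (Subgroup.subset_closure ⟨k, 1, one_ne_zero, rfl⟩)
  have move : ∀ n : ℕ, ∀ (v : Idx m → F) (c : Idx m), v c ≠ 0 → (∀ r, hgt r < hgt c → v r = 0) →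
      ((m : ℤ) - hgt c).toNat = n → ∃ g ∈ K, ∃ α : F,
        (g : Matrix (Idx m) (Idx m) F) *ᵥ v = α • Pi.single top 1 := by
    intro n
    induction n using Nat.strong_induction_on with
    | _ n ih =>
    intro v c hvc hlow hn'
    by_cases hc : c = top
    · refine ⟨1, one_mem _, v c, funext fun r => ?_⟩
      rw [OneMemClass.coe_one, Matrix.one_mulVec, Pi.smul_apply, Pi.single_apply, smul_eq_mul]
      by_cases hr : r = top
      · rw [hr, ← hc, if_pos rfl, mul_one]
      · rw [if_neg hr, mul_zero]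
        refine hlow r (lt_of_le_of_ne ?_ fun e => hr ((hgt_inj e).trans hc))
        rw [hc, htop]
        have := (hgt_bound r).2
        simp [hgt] at this ⊢
        omega
    obtain ⟨k, hk⟩ : ∃ k : Fin m, c = sj k ∨ c = (si k).swap := by
      rcases c with a | a
      · have ha : 0 < a.1 := Nat.pos_of_ne_zero fun e => hc (by rw [htop]; exact congrArg Sum.inl (Fin.ext e))
        refine ⟨⟨a.1 - 1, by have := a.2; omega⟩, Or.inl ?_⟩
        rw [sj, dif_pos (show a.1 - 1 + 1 < m by have := a.2; omega)]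
        exact congrArg Sum.inl (Fin.ext (show a.1 = a.1 - 1 + 1 by omega))
      · exact ⟨a, Or.inr rfl⟩
    obtain ⟨i', hi'⟩ : ∃ i', i' = sp k c := ⟨_, rfl⟩
    have hlt : hgt c < hgt i' := by
      rw [hi', hgt_sp]
      obtain ⟨q1, q2⟩ := adj k
      have := k.2
      have := hgt_ne c
      rcases hk with rfl | rfl
      · split_ifs <;> omega
      · rw [hgt_swap]; split_ifs <;> omega
    have hne : i' ≠ c := fun e => by rw [e] at hlt; omega
    obtain ⟨v', hv'⟩ : ∃ v', v' = (el i' c (-(v i') / v c) : Matrix (Idx m) (Idx m) F) *ᵥ v := ⟨_, rfl⟩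
    have hval : ∀ r, hgt r ≤ hgt c → v' r = v r := fun r hr => by
      rw [hv', el_apply hne]
      have h1 : r ≠ i' := fun e => by rw [e] at hr; omega
      rw [if_neg h1]
      split_ifs with h2
      · rw [hlow i'.swap (by rw [h2.2, hgt_swap] at hr; rw [hgt_swap]; omega)]; ring
      · ring
    have hi0 : v' i' = 0 := by
      rw [hv', el_apply hne, if_pos rfl, if_neg (fun h => h.1 (by rw [h.2, Sum.swap_swap]))]
      field_simp
      ring
    have hmon := isMon_n k (one_ne_zero (α := F))
    obtain ⟨w, hw⟩ : ∃ w, w = ((el (si k) (sj k) (1 : F) * el (sj k) (si k) (-1⁻¹) * el (si k) (sj k) 1 :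
        Matrix.symplecticGroup (Fin m) F) : Matrix (Idx m) (Idx m) F) *ᵥ v' := ⟨_, rfl⟩
    have hwlow : ∀ r, hgt r ≤ hgt c → w r = 0 := fun r hr => by
      obtain ⟨l, rfl⟩ := (sp k).surjective r
      rw [hw, hmon.apply]
      rcases sp_le k hk hr with h | h
      · rw [show sp k (sp k l) = l from rPerm_invol (si_ne_sj k) l] at h
        rcases eq_or_ne l c with rfl | hlc
        · rw [← hi'] at hr
          omega
        · rw [hval l h, hlow l (lt_of_le_of_ne h fun e => hlc (hgt_inj e)), mul_zero]
      · rw [show sp k (sp k l) = l from rPerm_invol (si_ne_sj k) l, ← hi'] at h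
        rw [h, hi0, mul_zero]
    have hwne : w i' ≠ 0 := by
      rw [hw, hi', hmon.apply, hval c le_rfl]
      exact mul_ne_zero (hmon.d_ne c) hvc
    obtain ⟨c', hc'w, hc'low⟩ : ∃ c', w c' ≠ 0 ∧ ∀ r, hgt r < hgt c' → w r = 0 := by
      obtain ⟨c', hc', hmin⟩ := (Finset.univ.filter fun r => w r ≠ 0).exists_min_image hgt
        ⟨i', by simp [hwne]⟩
      refine ⟨c', (Finset.mem_filter.1 hc').2, fun r hr => ?_⟩
      by_contra h0
      have := hmin r (by simp [h0])
      omega
    have hgt' : hgt c < hgt c' := lt_of_not_ge fun h => hc'w (hwlow c' h)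
    have hb := (hgt_bound c').2
    obtain ⟨g, hg, α, e⟩ := ih ((m : ℤ) - hgt c').toNat (by omega) w c' hc'w hc'low rfl
    refine ⟨g * (el (si k) (sj k) (1 : F) * el (sj k) (si k) (-1⁻¹) * el (si k) (sj k) 1) *
      el i' c (-(v i') / v c), mul_mem (mul_mem hg (hn k)) (hU _ (el_mem_upper hlt _)), α, ?_⟩
    rw [Submonoid.coe_mul, Submonoid.coe_mul, ← Matrix.mulVec_mulVec, ← Matrix.mulVec_mulVec, ← hv', ← hw, e]
  rw [eq_top_iff, ← CfsgLib.Classical.Symp.closure_sympTransvection_eq_top, Subgroup.closure_le]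
  rintro A ⟨v, c, hA⟩
  by_cases hv : v = 0
  · rw [show A = 1 from Subtype.ext (by rw [hA, hv]; simp [Cfsg.sympTransvection])]
    exact one_mem _
  obtain ⟨r0, hr0⟩ := Function.ne_iff.1 hv
  obtain ⟨c0, hc0, hmin⟩ := (Finset.univ.filter fun r => v r ≠ 0).exists_min_image hgt
    ⟨r0, by simpa using hr0⟩
  obtain ⟨g, hg, α, e⟩ := move _ v c0 (Finset.mem_filter.1 hc0).2 (fun r hr => by
    by_contra h0
    have := hmin r (by simp [h0])
    omega) rfl
  have hT : g * A * g⁻¹ = el top top.swap (-(c * α ^ 2) * eps top.swap) := by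
    open CfsgLib.Classical.Symp in
    have e1 : A = (symplecticEquiv m F).symm (tr (sympBil_isAlt m F) v c) :=
      Subtype.ext (hA.trans (symplecticEquiv_symm_tr v c).symm)
    open CfsgLib.Classical.Symp in
    have e2 : g * A * g⁻¹ = (symplecticEquiv m F).symm
        (tr (sympBil_isAlt m F) (α • Pi.single top (1 : F)) c) := by
      apply (symplecticEquiv m F).injective
      rw [map_mul, map_mul, map_inv, e1, MulEquiv.apply_symm_apply, conj_tr, symplecticEquiv_apply, e,
        MulEquiv.apply_symm_apply]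
    rw [e2]
    refine ext_mulVec fun u => funext fun r => ?_
    open CfsgLib.Classical.Symp in
    rw [symplecticEquiv_symm_mulVec, tr_apply, sympBil_apply, el_apply (swap_ne top).symm,
      Pi.add_apply, Pi.smul_apply, Pi.smul_apply, smul_eq_mul, smul_eq_mul, Pi.single_apply, Cfsg.sympForm]
    have hdot : u ⬝ᵥ Matrix.J (Fin m) F *ᵥ (α • Pi.single top (1 : F)) = -eps top.swap * u top.swap * α := by
      rw [Matrix.mulVec_smul, dotProduct_smul, Matrix.mulVec_single_one, smul_eq_mul]
      simp only [dotProduct, Matrix.col_apply, J_entry]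
      rw [Finset.sum_eq_single top.swap]
      · rw [if_pos (Sum.swap_swap top).symm]; ring
      · intro b _ hb; rw [if_neg (fun e => hb (by rw [e, Sum.swap_swap])), mul_zero]
      · simp
    rw [hdot]
    simp only [ne_eq, not_true_eq_false, false_and, if_false, add_zero]
    split_ifs <;> ring
  have hmem : g * A * g⁻¹ ∈ K := hT ▸ hU _ (el_mem_upper (by rw [hgt_swap, htop]; simp [hgt]; omega) _)
  rw [SetLike.mem_coe, show A = g⁻¹ * (g * A * g⁻¹) * g by group]
  exact mul_mem (mul_mem (inv_mem hg) hmem) hg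

end CfsgLib.Known.SympMult
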