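import Cfsg.Agent.Lib.Classical.Symplectic.Basic

/-!
# The unipotent radical of a point stabiliser in a symplectic group
-/

set_option autoImplicit false
set_option linter.unusedSectionVars false

namespace CfsgLib.Known.SympMult

open CfsgLib.Classical
open LinearMap (BilinForm)

variable {F : Type*} [Field F] {V : Type*} [AddCommGroup V] [Module F V]

/-- a hyperbolic pair for an alternating nondegenerate form -/
structure Pair (B : BilinForm F V) (a f : V) : Prop where
  alt : B.IsAlt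
  nondeg : B.Nondegenerate
  af : B a f = 1

variable {B : BilinForm F V} {a f : V}

/-- the orthogonal complement of the pair -/
def perp (B : BilinForm F V) (a f : V) : Submodule F V where
  carrier := {v | B a v = 0 ∧ B f v = 0}
  add_mem' := fun {u v} hu hv => ⟨by rw [map_add, hu.1, hv.1, add_zero], by rw [map_add, hu.2, hv.2, add_zero]⟩
  zero_mem' := ⟨map_zero _, map_zero _⟩
  smul_mem' := fun c v hv => ⟨by rw [LinearMap.map_smul, hv.1, smul_zero], by rw [LinearMap.map_smul, hv.2, smul_zero]⟩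

variable (P : Pair B a f)
include P

theorem Pair.sw (u v : V) : B v u = -B u v := Symp.swap P.alt u v

theorem Pair.fa : B f a = -1 := by rw [P.sw, P.af]

theorem Pair.av (v : perp B a f) : B a (v : V) = 0 := v.2.1

theorem Pair.fv (v : perp B a f) : B f (v : V) = 0 := v.2.2

theorem Pair.va (v : perp B a f) : B (v : V) a = 0 := by rw [P.sw, P.av, neg_zero]

theorem Pair.vf (v : perp B a f) : B (v : V) f = 0 := by rw [P.sw, P.fv, neg_zero]

theorem Pair.decomp (y : V) : ∃ w : perp B a f, y = B y f • a + B a y • f + (w : V) := by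
  refine ⟨⟨y - B y f • a - B a y • f, ?_, ?_⟩, by simp⟩
  · simp [P.alt a, P.af]
  · simp [P.alt f, P.fa, P.sw y f]

theorem Pair.hext {g g' : V ≃ₗ[F] V} (ha : g a = g' a) (hf : g f = g' f)
    (hv : ∀ v : perp B a f, g (v : V) = g' (v : V)) : g = g' := by
  refine LinearEquiv.ext fun y => ?_
  obtain ⟨w, hw⟩ := P.decomp y
  rw [hw]
  simp [ha, hf, hv w]

/-- the map of a root element -/
def Pair.xMap (P : Pair B a f) (v : perp B a f) (t : F) : V →ₗ[F] V :=
  LinearMap.id + (B (v : V)).smulRight a + (B a).smulRight (v : V) + (t • B a).smulRight a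

theorem Pair.xMap_apply (v : perp B a f) (t : F) (y : V) :
    P.xMap v t y = y + B (v : V) y • a + B a y • (v : V) + (t * B a y) • a := by
  simp [Pair.xMap]

theorem Pair.xMap_xMap (v w : perp B a f) (t s : F) (y : V) :
    P.xMap v t (P.xMap w s y) = P.xMap (v + w) (t + s + B (v : V) w) y := by
  simp only [P.xMap_apply, map_add, LinearMap.map_smul, smul_eq_mul, LinearMap.add_apply, P.alt a, P.av,
    P.va, Submodule.coe_add, mul_zero, add_zero]
  match_scalars <;> ring

theorem Pair.xMap_zero (y : V) : P.xMap 0 0 y = y := by simp [P.xMap_apply]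

/-- element of the unipotent radical -/
def Pair.x (P : Pair B a f) (v : perp B a f) (t : F) : Symp.Sp B :=
  ⟨{ toLinearMap := P.xMap v t
     invFun := P.xMap (-v) (-t)
     left_inv := fun y => by
       show P.xMap (-v) (-t) (P.xMap v t y) = y
       rw [P.xMap_xMap, neg_add_cancel, Submodule.coe_neg, LinearMap.map_neg₂, P.alt (v : V),
         neg_zero, neg_add_cancel, add_zero, P.xMap_zero]
     right_inv := fun y => by
       show P.xMap v t (P.xMap (-v) (-t) y) = y
       rw [P.xMap_xMap, add_neg_cancel, Submodule.coe_neg, map_neg, P.alt (v : V),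
         neg_zero, add_neg_cancel, add_zero, P.xMap_zero] },
    fun y z => by
      show B (P.xMap v t y) (P.xMap v t z) = B y z
      simp only [P.xMap_apply, map_add, LinearMap.map_smul, LinearMap.add_apply, LinearMap.smul_apply,
        smul_eq_mul, P.alt a, P.alt (v : V), P.av, P.va, mul_zero, add_zero]
      rw [P.sw (v : V) y, P.sw a y]
      ring⟩

theorem Pair.x_apply (v : perp B a f) (t : F) (y : V) :
    (P.x v t : V ≃ₗ[F] V) y = y + B (v : V) y • a + B a y • (v : V) + (t * B a y) • a := P.xMap_apply v t y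

theorem Pair.x_mul (v w : perp B a f) (t s : F) : P.x v t * P.x w s = P.x (v + w) (t + s + B (v : V) w) :=
  Subtype.ext (LinearEquiv.ext fun y => P.xMap_xMap v w t s y)

theorem Pair.x_zero : P.x 0 0 = 1 := Subtype.ext (LinearEquiv.ext fun y => P.xMap_zero y)

theorem Pair.x_inv (v : perp B a f) (t : F) : (P.x v t)⁻¹ = P.x (-v) (-t) := by
  refine inv_eq_of_mul_eq_one_right ?_
  rw [P.x_mul, add_neg_cancel, Submodule.coe_neg, map_neg, P.alt (v : V), neg_zero, add_neg_cancel, add_zero,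
    P.x_zero]

theorem Pair.x_a (v : perp B a f) (t : F) : (P.x v t : V ≃ₗ[F] V) a = a := by
  simp [P.x_apply, P.va, P.alt a]

theorem Pair.x_f (v : perp B a f) (t : F) : (P.x v t : V ≃ₗ[F] V) f = f + (v : V) + t • a := by
  simp [P.x_apply, P.vf, P.af]

theorem Pair.x_perp (v u : perp B a f) (t : F) :
    (P.x v t : V ≃ₗ[F] V) (u : V) = (u : V) + B (v : V) u • a := by
  simp [P.x_apply, P.av]

theorem Pair.x_inj {v w : perp B a f} {t s : F} (h : P.x v t = P.x w s) : v = w ∧ t = s := by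
  have h1 : (f : V) + (v : V) + t • a = f + (w : V) + s • a := by rw [← P.x_f, ← P.x_f, h]
  have h2 := congrArg (B f) h1
  simp [P.alt f, P.fa, P.fv] at h2
  subst h2
  exact ⟨Subtype.ext (add_left_cancel (add_right_cancel h1)), rfl⟩

theorem Pair.x_zero_eq_tr (t : F) : P.x 0 t = Symp.tr P.alt a (-t) := by
  refine Subtype.ext (LinearEquiv.ext fun y => ?_)
  simp [P.x_apply, Symp.tr_apply, P.sw a y]

/-- the radical -/
def Pair.QQ (P : Pair B a f) : Subgroup (Symp.Sp B) where
  carrier := {g | ∃ v t, g = P.x v t}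
  one_mem' := ⟨0, 0, P.x_zero.symm⟩
  mul_mem' := by rintro _ _ ⟨v, t, rfl⟩ ⟨w, s, rfl⟩; exact ⟨_, _, P.x_mul v w t s⟩
  inv_mem' := by rintro _ ⟨v, t, rfl⟩; exact ⟨_, _, P.x_inv v t⟩

theorem Pair.x_mem (v : perp B a f) (t : F) : P.x v t ∈ P.QQ := ⟨v, t, rfl⟩

/-- stabiliser of the pair -/
def Pair.LL (P : Pair B a f) : Subgroup (Symp.Sp B) where
  carrier := {g | (g : V ≃ₗ[F] V) a = a ∧ (g : V ≃ₗ[F] V) f = f}
  one_mem' := ⟨rfl, rfl⟩
  mul_mem' := by
    intro g h hg hh
    exact ⟨by simp [hh.1, hg.1], by simp [hh.2, hg.2]⟩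
  inv_mem' := by
    intro g hg
    exact ⟨by conv_lhs => rw [← hg.1]; simp [LinearEquiv.coe_inv],
      by conv_lhs => rw [← hg.2]; simp [LinearEquiv.coe_inv]⟩

theorem Pair.LL_perp {g : Symp.Sp B} (hg : g ∈ P.LL) (v : perp B a f) : (g : V ≃ₗ[F] V) (v : V) ∈ perp B a f := by
  refine ⟨?_, ?_⟩
  · have h := g.2 a (v : V)
    simp only [hg.1] at h
    exact h.trans (P.av v)
  · have h := g.2 f (v : V)
    simp only [hg.2] at h
    exact h.trans (P.fv v)

/-- action of the stabiliser on the complement -/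
def Pair.act (P : Pair B a f) (g : Symp.Sp B) (hg : g ∈ P.LL) (v : perp B a f) : perp B a f := ⟨_, P.LL_perp hg v⟩

theorem Pair.B_act (g : Symp.Sp B) (hg : g ∈ P.LL) (v w : perp B a f) :
    B (P.act g hg v : V) (P.act g hg w) = B (v : V) w := g.2 v w

theorem Pair.conj_x {g : Symp.Sp B} (hg : g ∈ P.LL) (v : perp B a f) (t : F) :
    g * P.x v t * g⁻¹ = P.x (P.act g hg v) t := by
  rw [mul_inv_eq_iff_eq_mul]
  refine Subtype.ext (LinearEquiv.ext fun y => ?_)
  have h1 : B ((g : V ≃ₗ[F] V) (v : V)) ((g : V ≃ₗ[F] V) y) = B (v : V) y := g.2 v y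
  have h2 : B a ((g : V ≃ₗ[F] V) y) = B a y := by conv_lhs => rw [← hg.1]; exact g.2 a y
  simp [P.x_apply, Pair.act, h1, h2, hg.1]

theorem Pair.mem_QQ_of {g : Symp.Sp B} (ha : (g : V ≃ₗ[F] V) a = a)
    (hv : ∀ u : perp B a f, ∃ c : F, (g : V ≃ₗ[F] V) (u : V) = (u : V) + c • a) : g ∈ P.QQ := by
  obtain ⟨w, hw⟩ := P.decomp ((g : V ≃ₗ[F] V) f - f)
  have h0 : B a ((g : V ≃ₗ[F] V) f - f) = 0 := by
    rw [map_sub, P.af, sub_eq_zero]
    conv_lhs => rw [← ha]
    exact (g.2 a f).trans P.af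
  rw [h0, zero_smul, add_zero] at hw
  obtain ⟨t, ht⟩ : ∃ t, t = B ((g : V ≃ₗ[F] V) f - f) f := ⟨_, rfl⟩
  rw [← ht] at hw
  suffices hL : (P.x w t)⁻¹ * g = 1 by exact ⟨w, t, (inv_mul_eq_one.1 hL).symm⟩
  have hf : ((P.x w t)⁻¹ * g : Symp.Sp B).1 f = f := by
    rw [Subgroup.coe_mul, Subgroup.coe_inv, LinearEquiv.mul_apply, LinearEquiv.coe_inv, LinearEquiv.symm_apply_eq,
      P.x_f]
    calc (g : V ≃ₗ[F] V) f = f + ((g : V ≃ₗ[F] V) f - f) := by abel
      _ = _ := by rw [hw]; abel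
  have ha' : ((P.x w t)⁻¹ * g : Symp.Sp B).1 a = a := by
    rw [Subgroup.coe_mul, Subgroup.coe_inv, LinearEquiv.mul_apply, LinearEquiv.coe_inv, LinearEquiv.symm_apply_eq,
      P.x_a, ha]
  refine Subtype.ext (P.hext ha' hf fun u => ?_)
  obtain ⟨c, hc⟩ := hv u
  have hu : ∃ d : F, ((P.x w t)⁻¹ * g : Symp.Sp B).1 (u : V) = (u : V) + d • a :=
    ⟨c + B ((-w : perp B a f) : V) u, by
      rw [Subgroup.coe_mul, LinearEquiv.mul_apply, hc, P.x_inv, map_add, LinearEquiv.map_smul, P.x_perp, P.x_a,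
        add_smul]
      abel⟩
  obtain ⟨d, hd⟩ := hu
  have h1 : B f (((P.x w t)⁻¹ * g : Symp.Sp B).1 (u : V)) = 0 :=
    (P.LL_perp (g := (P.x w t)⁻¹ * g) ⟨ha', hf⟩ u).2
  rw [hd] at h1
  simp [P.fa, P.fv] at h1
  rw [hd, h1, zero_smul, add_zero]
  rfl

/-- the torus map -/
def Pair.hMap (P : Pair B a f) (c : F) : V →ₗ[F] V :=
  LinearMap.id + ((c - 1) • B.flip f).smulRight a + ((c⁻¹ - 1) • B a).smulRight f

theorem Pair.hMap_apply (c : F) (y : V) :
    P.hMap c y = y + ((c - 1) * B y f) • a + ((c⁻¹ - 1) * B a y) • f := by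
  simp [Pair.hMap]

theorem Pair.hMap_hMap {c : F} (hc : c ≠ 0) (y : V) : P.hMap c⁻¹ (P.hMap c y) = y := by
  simp only [P.hMap_apply, map_add, LinearMap.map_smul, LinearMap.add_apply, LinearMap.smul_apply, smul_eq_mul,
    P.alt a, P.alt f, P.af, mul_zero, add_zero, inv_inv, mul_one]
  match_scalars <;> field_simp <;> ring

/-- torus element -/
def Pair.h (P : Pair B a f) (c : F) (hc : c ≠ 0) : Symp.Sp B :=
  ⟨{ toLinearMap := P.hMap c
     invFun := P.hMap c⁻¹
     left_inv := fun y => P.hMap_hMap hc y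
     right_inv := fun y => by
       show P.hMap c (P.hMap c⁻¹ y) = y
       have := P.hMap_hMap (inv_ne_zero hc) y
       rwa [inv_inv] at this },
    fun y z => by
      show B (P.hMap c y) (P.hMap c z) = B y z
      simp only [P.hMap_apply, map_add, LinearMap.map_smul, LinearMap.add_apply, LinearMap.smul_apply, smul_eq_mul,
        P.alt a, P.alt f, P.af, P.fa, mul_zero, add_zero]
      rw [P.sw a y, P.sw z f]
      field_simp
      ring⟩

theorem Pair.h_apply (c : F) (hc : c ≠ 0) (y : V) :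
    (P.h c hc : V ≃ₗ[F] V) y = y + ((c - 1) * B y f) • a + ((c⁻¹ - 1) * B a y) • f := P.hMap_apply c y

theorem Pair.h_perp (c : F) (hc : c ≠ 0) (u : perp B a f) : (P.h c hc : V ≃ₗ[F] V) (u : V) = u := by
  simp [P.h_apply, P.av, P.vf]

theorem Pair.h_conj_x (c : F) (hc : c ≠ 0) (v : perp B a f) (t : F) :
    P.h c hc * P.x v t * (P.h c hc)⁻¹ = P.x (c • v) (c ^ 2 * t) := by
  rw [mul_inv_eq_iff_eq_mul]
  refine Subtype.ext (P.hext ?_ ?_ fun u => ?_)
  · simp [P.x_apply, P.h_apply, P.alt a, P.af, P.va]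
  · simp [P.x_apply, P.h_apply, P.alt a, P.alt f, P.af, P.av, P.vf, P.va]
    match_scalars <;> field_simp <;> ring
  · simp [P.x_apply, P.h_apply, P.alt a, P.af, P.av, P.vf, P.va]
    match_scalars <;> ring

theorem Pair.h_conj_LL (c : F) (hc : c ≠ 0) {g : Symp.Sp B} (hg : g ∈ P.LL) :
    P.h c hc * g = g * P.h c hc := by
  refine Subtype.ext (P.hext ?_ ?_ fun u => ?_)
  · simp [P.h_apply, hg.1, hg.2, P.alt a, P.af]
  · simp [P.h_apply, hg.1, hg.2, P.alt f, P.af]
  · rw [Subgroup.coe_mul, Subgroup.coe_mul, LinearEquiv.mul_apply, LinearEquiv.mul_apply, P.h_perp c hc u]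
    exact P.h_perp c hc ⟨_, P.LL_perp hg u⟩

theorem Pair.tr_mem_LL (u : perp B a f) (s : F) : Symp.tr P.alt (u : V) s ∈ P.LL :=
  ⟨Symp.tr_fix P.alt s (P.av u), Symp.tr_fix P.alt s (P.fv u)⟩

theorem Pair.act_tr (u v : perp B a f) (s : F) :
    P.act _ (P.tr_mem_LL u s) v = v + (s * B (v : V) u) • u := by
  exact Subtype.ext (by simp [Pair.act, Symp.tr_apply])

theorem Pair.exists_dual {v : perp B a f} (hv : v ≠ 0) : ∃ w : perp B a f, B (v : V) w = 1 := by
  obtain ⟨y, hy⟩ : ∃ y, B (v : V) y = 1 := by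
    obtain ⟨y, -, hy⟩ := Symp.exists_partner (Symp.nondeg_top P.nondeg) (U := ⊤) trivial
      (fun h => hv (Subtype.ext h))
    exact ⟨y, hy⟩
  obtain ⟨w, hw⟩ := P.decomp y
  refine ⟨w, ?_⟩
  rw [← hy, hw]
  simp [P.va, P.vf]

theorem Pair.exists_sep {v v' : perp B a f} (hv : v ≠ 0) (hind : ∀ k : F, v' ≠ k • v) (b b' : F) :
    ∃ y : perp B a f, B (v : V) y = b ∧ B (v' : V) y = b' := by
  obtain ⟨vs, hvs⟩ := P.exists_dual hv
  obtain ⟨w0, hw0⟩ : ∃ w0, w0 = v' - B (v' : V) vs • v := ⟨_, rfl⟩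
  obtain ⟨y0, hy0⟩ := P.exists_dual (v := w0) (fun h => hind (B (v' : V) vs) (sub_eq_zero.1 (hw0 ▸ h)))
  obtain ⟨z, hz⟩ : ∃ z, z = y0 - B (v : V) y0 • vs := ⟨_, rfl⟩
  have h1 : B (v : V) z = 0 := by rw [hz]; simp [hvs]
  have h2 : B (v' : V) z = 1 := by
    rw [hz]
    rw [hw0] at hy0
    simp at hy0 ⊢
    linear_combination hy0
  exact ⟨b • vs + (b' - b * B (v' : V) vs) • z, by simp [hvs, h1], by simp [h2]⟩

/-- a biadditive map killing orthogonal pairs factors through the form -/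
theorem exists_factor {A : Type*} [AddCommGroup A] (c : perp B a f → perp B a f → A)
    (hl : ∀ u u' w, c (u + u') w = c u w + c u' w) (hr : ∀ u w w', c u (w + w') = c u w + c u w')
    (horth : ∀ u w : perp B a f, B (u : V) w = 0 → c u w = 0) {e g : perp B a f} (heg : B (e : V) g = 1) :
    ∀ v w : perp B a f, c v w = c e (B (v : V) w • g) := by
  have key : ∀ v w w' : perp B a f, B (v : V) w = B (v : V) w' → c v w = c v w' := fun v w w' h => by
    have h1 := hr v (w - w') w'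
    rw [sub_add_cancel, horth v (w - w') (by simp [h]), zero_add] at h1
    exact h1
  have hindep : ∀ v v' : perp B a f, v ≠ 0 → (∀ k : F, v' ≠ k • v) → ∀ y y' : perp B a f,
      B (v : V) y = B (v' : V) y' → c v y = c v' y' := by
    intro v v' hv hind y y' h
    obtain ⟨y1, e1, e2⟩ := P.exists_sep hv hind (B (v : V) y) 0
    obtain ⟨y2, e3, e4⟩ := P.exists_sep hv hind 0 (B (v' : V) y')
    have h1 := hl v v' y1
    rw [horth v' y1 e2, add_zero, key v y1 y e1] at h1
    have h2 := hl v v' y2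
    rw [horth v y2 e3, zero_add, key v' y2 y' e4] at h2
    rw [← h1, ← h2]
    exact key _ _ _ (by simp [e1, e2, e3, e4, h])
  intro v w
  have he : e ≠ 0 := fun h => by simp [h] at heg
  have hb : B (v : V) w = B (e : V) (B (v : V) w • g : perp B a f) := by simp [heg]
  by_cases hv : v = 0
  · subst hv
    rw [horth 0 w (by simp), horth e _ (by simp)]
  by_cases hd : ∀ k : F, v ≠ k • e
  · exact (hindep e v he hd _ w hb.symm).symm
  · push Not at hd
    obtain ⟨k, rfl⟩ := hd
    have hk : k ≠ 0 := fun h => hv (by simp [h])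
    have hg : ∀ l : F, g ≠ l • e := fun l h => by simp [h, P.alt (e : V)] at heg
    have hg' : ∀ l : F, g ≠ l • (k • e) := fun l => by rw [smul_smul]; exact hg _
    obtain ⟨y, hy⟩ := P.exists_dual (v := g) (fun h => by simp [h] at heg)
    have h1 := hindep (k • e) g hv hg' w (B ((k • e : perp B a f) : V) w • y) (by simp [hy])
    have h2 := hindep e g he hg (B ((k • e : perp B a f) : V) w • g) (B ((k • e : perp B a f) : V) w • y)
      (by simp [hy, heg])
    rw [h1, ← h2]

end CfsgLib.Known.SympMult
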