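import Cfsg.Agent.Lib.Classical.Symplectic.MatrixTransvection

/-!
# Root elements and monomial elements of the matrix symplectic group
-/

set_option autoImplicit false
set_option linter.unusedSectionVars false

namespace CfsgLib.Known.SympMult

open Matrix

variable {m : ℕ} {F : Type*} [Field F]

/-- index set of the standard symplectic basis -/
abbrev Idx (m : ℕ) := Fin m ⊕ Fin m

/-- side sign -/
def eps : Idx m → F := Sum.elim (fun _ => 1) (fun _ => -1)

theorem eps_swap (a : Idx m) : (eps a.swap : F) = -eps a := by cases a <;> simp [eps]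

theorem eps_mul_self (a : Idx m) : (eps a : F) * eps a = 1 := by cases a <;> simp [eps]

theorem eps_ne (a : Idx m) : (eps a : F) ≠ 0 := by cases a <;> simp [eps]

theorem J_entry (a b : Idx m) : Matrix.J (Fin m) F a b = if b = a.swap then -eps a else 0 := by
  rcases a with a | a <;> rcases b with b | b <;> simp [Matrix.J, eps, Matrix.one_apply, eq_comm] <;>
    split_ifs <;> simp

theorem swap_ne (a : Idx m) : a.swap ≠ a := by cases a <;> simp

/-- the nilpotent part of a root element -/
def nMat (i j : Idx m) : Matrix (Idx m) (Idx m) F := fun r c =>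
  (if r = i ∧ c = j then 1 else 0) +
    (if j ≠ i.swap ∧ r = j.swap ∧ c = i.swap then -(eps i * eps j) else 0)

theorem mem_of_col {A : Matrix (Idx m) (Idx m) F}
    (h : ∀ x y, ∑ r, -eps r * A r x * A r.swap y = if y = x.swap then -eps x else 0) :
    A ∈ Matrix.symplecticGroup (Fin m) F := by
  rw [SymplecticGroup.mem_iff']
  ext x y
  rw [J_entry, ← h x y, Matrix.mul_apply]
  rw [show (∑ r, -eps r * A r x * A r.swap y) = ∑ r, (Aᵀ * Matrix.J (Fin m) F) x r.swap * A r.swap y from
    Finset.sum_congr rfl fun r _ => by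
      rw [Matrix.mul_apply, Finset.sum_eq_single r]
      · rw [J_entry, if_pos rfl, Matrix.transpose_apply]; ring
      · intro b _ hb
        rw [J_entry, if_neg (fun e => hb (by rw [← Sum.swap_swap b, ← e, Sum.swap_swap])), mul_zero]
      · simp]
  exact (Equiv.sum_comp (Equiv.sumComm (Fin m) (Fin m)) (fun r => (Aᵀ * Matrix.J (Fin m) F) x r * A r y)).symm

theorem col_of_mem {A : Matrix (Idx m) (Idx m) F} (hA : A ∈ Matrix.symplecticGroup (Fin m) F) (x y : Idx m) :
    ∑ r, -eps r * A r x * A r.swap y = if y = x.swap then -eps x else 0 := by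
  rw [SymplecticGroup.mem_iff'] at hA
  rw [← J_entry, ← hA, Matrix.mul_apply]
  refine Eq.trans (Finset.sum_congr rfl fun r _ => ?_)
    (Equiv.sum_comp (Equiv.sumComm (Fin m) (Fin m)) (fun r => (Aᵀ * Matrix.J (Fin m) F) x r * A r y))
  show _ = (Aᵀ * Matrix.J (Fin m) F) x r.swap * A r.swap y
  rw [Matrix.mul_apply, Finset.sum_eq_single r]
  · rw [J_entry, if_pos rfl, Matrix.transpose_apply]; ring
  · intro b _ hb
    rw [J_entry, if_neg (fun e => hb (by rw [← Sum.swap_swap b, ← e, Sum.swap_swap])), mul_zero]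
  · simp

/-- matrix of a root element -/
def elMat (i j : Idx m) (t : F) : Matrix (Idx m) (Idx m) F := 1 + t • nMat i j

theorem elMat_mulVec (i j : Idx m) (t : F) (v : Idx m → F) (r : Idx m) :
    (elMat i j t *ᵥ v) r = v r + t * ((if r = i then v j else 0) +
      (if j ≠ i.swap ∧ r = j.swap then -(eps i * eps j) * v i.swap else 0)) := by
  rw [elMat, Matrix.add_mulVec, Matrix.one_mulVec, Matrix.smul_mulVec, Pi.add_apply, Pi.smul_apply, smul_eq_mul]
  congr 2
  simp only [Matrix.mulVec, dotProduct, nMat, add_mul, Finset.sum_add_distrib]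
  congr 1
  · rw [Finset.sum_eq_single j]
    · simp
    · intro b _ hb; simp [hb]
    · simp
  · rw [Finset.sum_eq_single i.swap]
    · simp only [and_true]; split_ifs <;> simp
    · intro b _ hb; simp [hb]
    · simp

theorem elMat_mem {i j : Idx m} (hij : i ≠ j) (t : F) : elMat i j t ∈ Matrix.symplecticGroup (Fin m) F := by
  rw [CfsgLib.Classical.Symp.mem_symplecticGroup_iff_form]
  intro u v
  simp only [Cfsg.sympForm]
  have key : ∀ u v : Idx m → F, u ⬝ᵥ (Matrix.J (Fin m) F *ᵥ v) = ∑ r, -eps r * u r * v r.swap := fun u v => by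
    refine Finset.sum_congr rfl fun r _ => ?_
    simp only [Matrix.mulVec, dotProduct]
    rw [Finset.sum_eq_single r.swap]
    · rw [J_entry, if_pos rfl]; ring
    · intro b _ hb; rw [J_entry, if_neg hb, zero_mul]
    · simp
  rw [key, key, ← sub_eq_zero, ← Finset.sum_sub_distrib]
  have hs : ∀ a b : Idx m, a.swap = b ↔ a = b.swap := fun a b =>
    ⟨fun h => by rw [← h, Sum.swap_swap], fun h => by rw [h, Sum.swap_swap]⟩
  have hne : i ≠ i.swap := (swap_ne i).symm
  by_cases hl : j = i.swap
  · subst hl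
    rw [Finset.sum_eq_add_of_mem i i.swap (Finset.mem_univ _) (Finset.mem_univ _) hne (fun r _ hr => by
      simp [elMat_mulVec, hr.1, hs r, hr.2])]
    simp [elMat_mulVec, eps_swap, hne, hne.symm]
    ring
  · have h1 : i ≠ j.swap := fun e => hl (by rw [e, Sum.swap_swap])
    have h2 : j.swap ≠ i.swap := fun e => hij (by rw [← Sum.swap_swap i, ← e, Sum.swap_swap])
    have hrest : ∀ r, r ∉ ({i, i.swap, j, j.swap} : Finset (Idx m)) →
        -eps r * (elMat i j t *ᵥ u) r * (elMat i j t *ᵥ v) r.swap - -eps r * u r * v r.swap = 0 := fun r hr => by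
      simp only [Finset.mem_insert, Finset.mem_singleton, not_or] at hr
      simp [elMat_mulVec, hr.1, hr.2.1, hr.2.2.1, hr.2.2.2, hs r, hl]
    rw [← Finset.sum_subset (Finset.subset_univ ({i, i.swap, j, j.swap} : Finset (Idx m)))
      (fun r _ hr => hrest r hr)]
    rw [Finset.sum_insert (by simp [hne, hij, h1]), Finset.sum_insert (by simp [Ne.symm hl, h2.symm]),
      Finset.sum_pair (swap_ne j).symm]
    simp [elMat_mulVec, eps_swap, hne, hne.symm, hij, hij.symm, hl, h1, h1.symm, h2, h2.symm, Ne.symm hl,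
      swap_ne j, (swap_ne j).symm]
    linear_combination (-(eps i) * t * (u i.swap * v j - u j * v i.swap)) * eps_mul_self (F := F) j

/-- root element -/
def el (i j : Idx m) (t : F) : Matrix.symplecticGroup (Fin m) F :=
  if h : i = j then 1 else ⟨elMat i j t, elMat_mem h t⟩

theorem coe_el {i j : Idx m} (hij : i ≠ j) (t : F) :
    (el i j t : Matrix (Idx m) (Idx m) F) = elMat i j t := by rw [el, dif_neg hij]

theorem ext_mulVec {g g' : Matrix.symplecticGroup (Fin m) F}
    (h : ∀ v, (g : Matrix (Idx m) (Idx m) F) *ᵥ v = (g' : Matrix (Idx m) (Idx m) F) *ᵥ v) : g = g' :=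
  Subtype.ext (Matrix.ext_of_mulVec_single fun i => h _)

theorem el_entry {i j : Idx m} (hij : i ≠ j) (t : F) (r c : Idx m) :
    (el i j t : Matrix (Idx m) (Idx m) F) r c = (1 : Matrix (Idx m) (Idx m) F) r c + t * nMat i j r c := by
  rw [coe_el hij]; simp [elMat]

theorem el_apply {i j : Idx m} (hij : i ≠ j) (t : F) (v : Idx m → F) (r : Idx m) :
    ((el i j t : Matrix (Idx m) (Idx m) F) *ᵥ v) r = v r + t * ((if r = i then v j else 0) +
      (if j ≠ i.swap ∧ r = j.swap then -(eps i * eps j) * v i.swap else 0)) := by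
  rw [coe_el hij, elMat_mulVec]

theorem el_add (i j : Idx m) (t u : F) : el i j t * el i j u = el i j (t + u) := by
  by_cases hij : i = j
  · simp [el, hij]
  refine ext_mulVec fun v => funext fun r => ?_
  rw [Submonoid.coe_mul, ← Matrix.mulVec_mulVec, el_apply hij, el_apply hij, el_apply hij, el_apply hij, el_apply hij]
  have h1 : i ≠ i.swap := (swap_ne i).symm
  by_cases hl : j = i.swap
  · subst hl
    simp [h1.symm]
    split_ifs <;> ring
  · have h2 : i ≠ j.swap := fun e => hl (by rw [e, Sum.swap_swap])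
    have h3 : j.swap ≠ i.swap := fun e => hij (by rw [← Sum.swap_swap i, ← e, Sum.swap_swap])
    simp [hl, Ne.symm hij, h1.symm, h3.symm, (swap_ne j).symm]
    split_ifs <;> ring

theorem el_partner {i j : Idx m} (hij : i ≠ j) (hl : j ≠ i.swap) (t : F) :
    el j.swap i.swap t = el i j (-(eps i * eps j) * t) := by
  have h3 : j.swap ≠ i.swap := fun e => hij (by rw [← Sum.swap_swap i, ← e, Sum.swap_swap])
  have hl' : i.swap ≠ j.swap.swap := by rw [Sum.swap_swap]; exact fun e => hl e.symm
  refine ext_mulVec fun v => funext fun r => ?_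
  rw [el_apply h3, el_apply hij]
  simp only [Sum.swap_swap, ne_eq, hl', not_false_eq_true, true_and, hl, eps_swap, neg_mul_neg]
  have := eps_mul_self (F := F) i
  have := eps_mul_self (F := F) j
  by_cases h1 : r = i <;> by_cases h2 : r = j.swap <;> simp [h1, h2] <;>
    (try subst h1) <;> (try subst h2) <;> first | ring1 | grind

/-- monomial elements -/
def IsMon (g : Matrix.symplecticGroup (Fin m) F) (σ : Equiv.Perm (Idx m)) (d : Idx m → F) : Prop :=
  (∀ a, σ a.swap = (σ a).swap) ∧ ∀ r c, (g : Matrix (Idx m) (Idx m) F) r c = if r = σ c then d c else 0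

theorem IsMon.d_mul {g : Matrix.symplecticGroup (Fin m) F} {σ : Equiv.Perm (Idx m)} {d : Idx m → F}
    (h : IsMon g σ d) (c : Idx m) : d c * d c.swap * eps (σ c) = eps c := by
  have := col_of_mem g.2 c c.swap
  rw [if_pos rfl, Finset.sum_eq_single (σ c)] at this
  · rw [h.2, h.2, if_pos rfl, h.1, if_pos rfl] at this
    linear_combination -this
  · intro b _ hb; rw [h.2, if_neg hb]; ring
  · simp

theorem IsMon.d_ne {g : Matrix.symplecticGroup (Fin m) F} {σ : Equiv.Perm (Idx m)} {d : Idx m → F}
    (h : IsMon g σ d) (c : Idx m) : d c ≠ 0 := fun e => by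
  have := h.d_mul c
  rw [e] at this
  simp at this
  exact eps_ne c this.symm

theorem IsMon.apply {g : Matrix.symplecticGroup (Fin m) F} {σ : Equiv.Perm (Idx m)} {d : Idx m → F}
    (h : IsMon g σ d) (v : Idx m → F) (c : Idx m) :
    ((g : Matrix (Idx m) (Idx m) F) *ᵥ v) (σ c) = d c * v c := by
  show ∑ x, (g : Matrix (Idx m) (Idx m) F) (σ c) x * v x = _
  rw [Finset.sum_eq_single c]
  · rw [h.2, if_pos rfl]
  · intro b _ hb; rw [h.2, if_neg (fun e => hb (σ.injective e).symm), zero_mul]
  · simp

theorem IsMon.conj_el {g : Matrix.symplecticGroup (Fin m) F} {σ : Equiv.Perm (Idx m)} {d : Idx m → F}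
    (h : IsMon g σ d) {i j : Idx m} (hij : i ≠ j) (t : F) :
    g * el i j t * g⁻¹ = el (σ i) (σ j) (d i / d j * t) := by
  rw [mul_inv_eq_iff_eq_mul]
  refine ext_mulVec fun v => funext fun r => ?_
  obtain ⟨c, rfl⟩ := σ.surjective r
  rw [Submonoid.coe_mul, Submonoid.coe_mul, ← Matrix.mulVec_mulVec, ← Matrix.mulVec_mulVec, h.apply,
    el_apply hij, el_apply (σ.injective.ne hij), h.apply, h.apply]
  have ei : σ i.swap = (σ i).swap := h.1 i
  rw [← ei, h.apply, ← h.1 j]
  simp only [σ.injective.eq_iff, ne_eq]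
  have hi := h.d_mul i
  have hj := h.d_mul j.swap
  rw [Sum.swap_swap, h.1, eps_swap, eps_swap] at hj
  have := h.d_ne j
  have := eps_mul_self (F := F) (σ i)
  have := eps_mul_self (F := F) (σ j)
  by_cases h1 : c = i <;> by_cases h2 : j ≠ i.swap ∧ c = j.swap
  · exfalso; exact h2.1 (by rw [← h1, h2.2, Sum.swap_swap])
  · simp only [h1, if_true] ; rw [if_neg (h1 ▸ h2), if_neg (h1 ▸ h2)]; field_simp; ring
  · rw [if_neg h1, if_pos h2, if_neg h1, if_pos h2, h2.2]
    have := eps_mul_self (F := F) j
    have := eps_mul_self (F := F) i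
    field_simp
    grind
  · rw [if_neg h1, if_neg h2, if_neg h1, if_neg h2]; ring

theorem IsMon.mul {g g' : Matrix.symplecticGroup (Fin m) F} {σ σ' : Equiv.Perm (Idx m)} {d d' : Idx m → F}
    (h : IsMon g σ d) (h' : IsMon g' σ' d') : IsMon (g * g') (σ * σ') (fun c => d (σ' c) * d' c) := by
  refine ⟨fun a => by rw [Equiv.Perm.mul_apply, h'.1, h.1]; rfl, fun r c => ?_⟩
  rw [Submonoid.coe_mul, Matrix.mul_apply, Finset.sum_eq_single (σ' c)]
  · rw [h.2, h'.2, if_pos rfl, Equiv.Perm.mul_apply]; split_ifs <;> ring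
  · intro b _ hb; rw [h'.2, if_neg hb, mul_zero]
  · simp

/-- permutation exchanging a pair of indices and its opposite -/
def rPerm (i j : Idx m) : Equiv.Perm (Idx m) :=
  if j = i.swap then Equiv.swap i j else Equiv.swap i j * Equiv.swap i.swap j.swap

/-- coefficients of a rank one Weyl element -/
def rCoef (i j : Idx m) (c : F) : Idx m → F := fun x =>
  if x = i then -c⁻¹ else if x = j then c else if x = i.swap then -(eps i * eps j) * c
  else if x = j.swap then (eps i * eps j) * c⁻¹ else 1

theorem rPerm_apply {i j : Idx m} (hij : i ≠ j) (x : Idx m) :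
    rPerm i j x = if x = i then j else if x = j then i else if x = i.swap then j.swap
      else if x = j.swap then i.swap else x := by
  have h3 : j.swap ≠ i.swap := fun e => hij (by rw [← Sum.swap_swap i, ← e, Sum.swap_swap])
  unfold rPerm
  by_cases hl : j = i.swap
  · rw [if_pos hl, Equiv.swap_apply_def]
    subst hl
    rw [Sum.swap_swap]
    split_ifs <;> simp_all
  · rw [if_neg hl, Equiv.Perm.mul_apply]
    have h2 : i ≠ j.swap := fun e => hl (by rw [e, Sum.swap_swap])
    have := (swap_ne i).symm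
    have := (swap_ne j).symm
    simp only [Equiv.swap_apply_def]
    split_ifs <;> simp_all

theorem rPerm_swap {i j : Idx m} (hij : i ≠ j) (a : Idx m) : rPerm i j a.swap = (rPerm i j a).swap := by
  have h3 : j.swap ≠ i.swap := fun e => hij (by rw [← Sum.swap_swap i, ← e, Sum.swap_swap])
  have := (swap_ne i).symm
  have := (swap_ne j).symm
  have hs : ∀ a b : Idx m, a.swap = b ↔ a = b.swap := fun a b =>
    ⟨fun h => by rw [← h, Sum.swap_swap], fun h => by rw [h, Sum.swap_swap]⟩
  rw [rPerm_apply hij, rPerm_apply hij]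
  by_cases hl : j = i.swap
  · subst hl
    simp only [hs, Sum.swap_swap]
    split_ifs <;> grind [Sum.swap_swap]
  · have hl' : i ≠ j.swap := fun e => hl (by rw [e, Sum.swap_swap])
    simp only [hs, Sum.swap_swap]
    split_ifs <;> grind [Sum.swap_swap]

theorem rPerm_invol {i j : Idx m} (hij : i ≠ j) (a : Idx m) : rPerm i j (rPerm i j a) = a := by
  have h3 : j.swap ≠ i.swap := fun e => hij (by rw [← Sum.swap_swap i, ← e, Sum.swap_swap])
  have := (swap_ne i).symm
  have := (swap_ne j).symm
  rw [rPerm_apply hij (rPerm i j a), rPerm_apply hij a]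
  by_cases hl : j = i.swap
  · subst hl
    split_ifs <;> grind [Sum.swap_swap]
  · have hl' : i ≠ j.swap := fun e => hl (by rw [e, Sum.swap_swap])
    split_ifs <;> grind [Sum.swap_swap]

theorem el_col {i j : Idx m} (hij : i ≠ j) (t : F) (x : Idx m) :
    (el i j t : Matrix (Idx m) (Idx m) F) *ᵥ Pi.single x (1 : F) = (Pi.single x (1 : F) : Idx m → F) +
      t • ((if x = j then (Pi.single i (1 : F) : Idx m → F) else 0) +
        (if j ≠ i.swap ∧ x = i.swap then -(eps i * eps j : F) • (Pi.single j.swap (1 : F) : Idx m → F) else 0)) := by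
  funext r
  rw [el_apply hij]
  simp only [Pi.add_apply, Pi.smul_apply, smul_eq_mul]
  congr 2
  congr 1
  · by_cases h1 : r = i <;> by_cases h2 : x = j <;> simp [Pi.single_apply, h1, h2, eq_comm]
  · by_cases h1 : r = j.swap <;> by_cases h2 : x = i.swap <;> by_cases h0 : j = i.swap <;>
      simp [h0, h1, h2, eq_comm, Pi.single_apply]

/-- rank one Weyl element -/
theorem isMon_weyl {i j : Idx m} (hij : i ≠ j) {c : F} (hc : c ≠ 0) :
    IsMon (el i j c * el j i (-c⁻¹) * el i j c) (rPerm i j) (rCoef i j c) := by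
  refine ⟨rPerm_swap hij, fun r x => ?_⟩
  have h3 : j.swap ≠ i.swap := fun e => hij (by rw [← Sum.swap_swap i, ← e, Sum.swap_swap])
  suffices h : ((el i j c * el j i (-c⁻¹) * el i j c : Matrix.symplecticGroup (Fin m) F) :
      Matrix (Idx m) (Idx m) F) *ᵥ Pi.single x 1 = rCoef i j c x • Pi.single (rPerm i j x) 1 by
    have := congrFun h r
    rw [Matrix.mulVec_single_one] at this
    simp only [Matrix.col_apply, Pi.smul_apply, Pi.single_apply, smul_eq_mul, mul_ite, mul_one, mul_zero] at this
    exact this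
  rw [Submonoid.coe_mul, Submonoid.coe_mul, ← Matrix.mulVec_mulVec, ← Matrix.mulVec_mulVec, el_col hij]
  have hi := (swap_ne i).symm
  have hj := (swap_ne j).symm
  have he := eps_mul_self (F := F) i
  have he' := eps_mul_self (F := F) j
  by_cases hl : j = i.swap
  · subst hl
    rw [Sum.swap_swap] at h3
    by_cases x1 : x = i
    · subst x1
      simp [el_col hij, el_col hij.symm, hi, hi.symm, rPerm_apply hij, rCoef, Matrix.mulVec_add, Matrix.mulVec_smul, Matrix.mulVec_neg,
        smul_smul]
      match_scalars <;> field_simp <;> ring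
    by_cases x2 : x = i.swap
    · subst x2
      simp [el_col hij, el_col hij.symm, hi, hi.symm, rPerm_apply hij, rCoef, Matrix.mulVec_add, Matrix.mulVec_smul, Matrix.mulVec_neg,
        smul_smul]
      match_scalars <;> field_simp <;> ring
    simp [el_col hij, el_col hij.symm, hi, hi.symm, x1, x2, rPerm_apply hij, rCoef]
  · have h2 : i ≠ j.swap := fun e => hl (by rw [e, Sum.swap_swap])
    have hl2 : i.swap ≠ j := Ne.symm hl
    by_cases x1 : x = i
    · subst x1
      simp [el_col hij, el_col hij.symm, hi, hi.symm, hj, hj.symm, hl, hl2, h2, h2.symm, h3, h3.symm, hij, hij.symm,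
        rPerm_apply hij, rCoef, Matrix.mulVec_add, Matrix.mulVec_smul, Matrix.mulVec_neg, smul_smul]
      match_scalars <;> field_simp <;> ring
    by_cases x2 : x = j
    · subst x2
      simp [el_col hij, el_col hij.symm, hi, hi.symm, hj, hj.symm, hl, hl2, h2, h2.symm, h3, h3.symm, hij, hij.symm,
        rPerm_apply hij, rCoef, Matrix.mulVec_add, Matrix.mulVec_smul, Matrix.mulVec_neg, smul_smul]
      match_scalars <;> field_simp <;> ring
    by_cases x3 : x = i.swap
    · subst x3
      simp [el_col hij, el_col hij.symm, hi, hi.symm, hj, hj.symm, hl, hl2, h2, h2.symm, h3, h3.symm, hij, hij.symm,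
        rPerm_apply hij, rCoef, Matrix.mulVec_add, Matrix.mulVec_smul, Matrix.mulVec_neg, smul_smul]
      match_scalars <;> field_simp <;> grind
    by_cases x4 : x = j.swap
    · subst x4
      simp [el_col hij, el_col hij.symm, hi, hi.symm, hj, hj.symm, hl, hl2, h2, h2.symm, h3, h3.symm, hij, hij.symm,
        rPerm_apply hij, rCoef, Matrix.mulVec_add, Matrix.mulVec_smul, Matrix.mulVec_neg, smul_smul]
      match_scalars <;> field_simp <;> grind
    simp [el_col hij, el_col hij.symm, hl, x1, x2, x3, x4, rPerm_apply hij, rCoef]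

end CfsgLib.Known.SympMult
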