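import Cfsg.Agent.Lib.Known.SympMult.Root
import Mathlib.LinearAlgebra.Matrix.CharP

/-!
# The unitriangular subgroup of the matrix symplectic group
-/

set_option autoImplicit false
set_option linter.unusedSectionVars false

namespace CfsgLib.Known.SympMult

open Matrix

variable {m : ℕ} {F : Type*} [Field F] [Finite F]

/-- height of a basis index -/
def hgt : Idx m → ℤ := Sum.elim (fun i => (m : ℤ) - i.1) (fun i => (i.1 : ℤ) - m)

theorem hgt_inj : Function.Injective (hgt (m := m)) := by
  rintro (a | a) (b | b) h <;> simp only [hgt, Sum.elim_inl, Sum.elim_inr] at h <;>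
    have := a.2 <;> have := b.2
  · exact congrArg Sum.inl (Fin.ext (by omega))
  · omega
  · omega
  · exact congrArg Sum.inr (Fin.ext (by omega))

theorem hgt_swap (a : Idx m) : hgt a.swap = -hgt a := by cases a <;> simp [hgt]

theorem hgt_ne (a : Idx m) : hgt a ≠ 0 := by
  rcases a with a | a <;> simp only [hgt, Sum.elim_inl, Sum.elim_inr] <;> have := a.2 <;> omega

theorem hgt_bound (a : Idx m) : -(m : ℤ) ≤ hgt a ∧ hgt a ≤ m := by
  rcases a with a | a <;> simp only [hgt, Sum.elim_inl, Sum.elim_inr] <;> have := a.2 <;> omega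

/-- unitriangular symplectic matrices as a submonoid -/
def upperMonoid (m : ℕ) (F : Type*) [Field F] : Submonoid (Matrix.symplecticGroup (Fin m) F) where
  carrier := {g | ∀ r c, hgt r ≤ hgt c → (g : Matrix (Idx m) (Idx m) F) r c = (1 : Matrix (Idx m) (Idx m) F) r c}
  one_mem' := fun r c _ => rfl
  mul_mem' := by
    intro a b ha hb r c hrc
    rw [Submonoid.coe_mul, Matrix.mul_apply, Finset.sum_eq_single r]
    · rw [ha r r le_rfl, Matrix.one_apply_eq, one_mul, hb r c hrc]
    · intro l _ hl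
      by_cases h : hgt r ≤ hgt l
      · rw [ha r l h, Matrix.one_apply_ne (Ne.symm hl), zero_mul]
      · rw [hb l c (by omega), Matrix.one_apply_ne (fun e => by rw [e] at h; exact h hrc), mul_zero]
    · simp

/-- unitriangular symplectic matrices -/
def upper (m : ℕ) (F : Type*) [Field F] [Finite F] : Subgroup (Matrix.symplecticGroup (Fin m) F) :=
  { upperMonoid m F with
    inv_mem' := fun {g} hg => by
      obtain ⟨n, hn⟩ : g⁻¹ ∈ Submonoid.powers g :=
        mem_powers_iff_mem_zpowers.2 (inv_mem (Subgroup.mem_zpowers g))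
      exact hn ▸ pow_mem (S := upperMonoid m F) hg n }

theorem mem_upper {g : Matrix.symplecticGroup (Fin m) F} : g ∈ upper m F ↔
    ∀ r c, hgt r ≤ hgt c → (g : Matrix (Idx m) (Idx m) F) r c = (1 : Matrix (Idx m) (Idx m) F) r c := Iff.rfl

theorem el_mem_upper {i j : Idx m} (h : hgt j < hgt i) (t : F) : el i j t ∈ upper m F := by
  intro r c hrc
  have hij : i ≠ j := fun e => by rw [e] at h; omega
  rw [el_entry hij, nMat]
  rw [if_neg, if_neg]
  · simp
  · rintro ⟨-, rfl, rfl⟩; rw [hgt_swap, hgt_swap] at hrc; omega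
  · rintro ⟨rfl, rfl⟩; omega

theorem el_not_mem_upper {i j : Idx m} (h : hgt i < hgt j) {t : F} (ht : t ≠ 0) : el i j t ∉ upper m F := by
  intro hg
  have hij : i ≠ j := fun e => by rw [e] at h; omega
  have := hg i j h.le
  rw [el_entry hij, nMat, if_pos ⟨rfl, rfl⟩, if_neg] at this
  · simp [ht] at this
  · rintro ⟨hl, h1, -⟩; exact hl (by rw [h1, Sum.swap_swap])

/-- entries of a power of a strictly triangular matrix -/
theorem pow_entry (N : Matrix (Idx m) (Idx m) F) (hN : ∀ r c, hgt r ≤ hgt c → N r c = 0) :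
    ∀ (k : ℕ) r c, hgt r < hgt c + k → (N ^ k) r c = 0
  | 0, r, c, h => by rw [pow_zero, Matrix.one_apply_ne]; rintro rfl; simp at h
  | k + 1, r, c, h => by
    rw [pow_succ, Matrix.mul_apply]
    refine Finset.sum_eq_zero fun l _ => ?_
    by_cases h1 : hgt l ≤ hgt c
    · rw [hN l c h1, mul_zero]
    · rw [pow_entry N hN k r l (by push_cast at h; omega), zero_mul]

theorem upper_isPGroup (hm : 1 ≤ m) {p : ℕ} [Fact p.Prime] [CharP F p] : IsPGroup p (upper m F) := by
  rintro ⟨g, hg⟩
  refine ⟨2 * m + 1, Subtype.ext (Subtype.ext ?_)⟩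
  have : Nonempty (Idx m) := ⟨Sum.inl ⟨0, hm⟩⟩
  obtain ⟨N, hN⟩ : ∃ N : Matrix (Idx m) (Idx m) F, N = (g : Matrix (Idx m) (Idx m) F) - 1 := ⟨_, rfl⟩
  have hN0 : ∀ r c, hgt r ≤ hgt c → N r c = 0 := fun r c h => by rw [hN, Matrix.sub_apply, hg r c h, sub_self]
  have h0 : N ^ (p ^ (2 * m + 1)) = 0 := by
    ext r c
    refine pow_entry N hN0 _ r c ?_
    have h1 := hgt_bound r
    have h2 := hgt_bound c
    have h3 : 2 * m + 1 < p ^ (2 * m + 1) := Nat.lt_pow_self (Fact.out (p := p.Prime)).one_lt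
    have h4 : ((2 * m + 1 : ℕ) : ℤ) < (p ^ (2 * m + 1) : ℕ) := by exact_mod_cast h3
    push_cast at h4 ⊢
    omega
  show (((g ^ p ^ (2 * m + 1) : Matrix.symplecticGroup (Fin m) F)) : Matrix (Idx m) (Idx m) F) = 1
  rw [SubmonoidClass.coe_pow, show (g : Matrix (Idx m) (Idx m) F) = 1 + N by rw [hN]; abel,
    add_pow_char_pow_of_commute (p := p) (n := 2 * m + 1) (h := Commute.one_left N), one_pow, h0, add_zero]

/-- adjacent entries determine their partners -/
theorem upper_partner {g : Matrix.symplecticGroup (Fin m) F} (hg : g ∈ upper m F) {i j : Idx m}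
    (hl : j ≠ i.swap) (hadj : ∀ r, hgt j ≤ hgt r → hgt r ≤ hgt i → r = i ∨ r = j) (hlt : hgt j < hgt i)
    (h0 : (g : Matrix (Idx m) (Idx m) F) i j = 0) : (g : Matrix (Idx m) (Idx m) F) j.swap i.swap = 0 := by
  have := col_of_mem g.2 j i.swap
  rw [if_neg (fun e => hlt.ne' (congrArg hgt (Sum.swap_leftInverse.injective e)))] at this
  have hij : i ≠ j := fun e => by rw [e] at hlt; omega
  rw [Finset.sum_eq_add_of_mem i j (Finset.mem_univ _) (Finset.mem_univ _) hij, h0, hg j j le_rfl,
    Matrix.one_apply_eq] at this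
  · simpa [eps_ne] using this
  · intro r _ hr
    by_cases h1 : hgt r ≤ hgt j
    · rw [hg r j h1, Matrix.one_apply_ne hr.2]; ring
    · by_cases h2 : hgt r.swap ≤ hgt i.swap
      · rw [hg _ _ h2, Matrix.one_apply_ne (fun e => hr.1 (Sum.swap_leftInverse.injective e))]; ring
      · rw [hgt_swap, hgt_swap] at h2
        rcases hadj r (by omega) (by omega) with e | e
        · exact absurd e hr.1
        · exact absurd e hr.2

end CfsgLib.Known.SympMult
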